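import Mathlib.GroupTheory.PGroup
import Mathlib.GroupTheory.Sylow
import Mathlib.GroupTheory.QuotientGroup.Basic
import Mathlib.Algebra.BigOperators.Fin

/-!
# An element with few fixed points in a coprime fixed-point-free action
-/

set_option autoImplicit false
set_option linter.style.haveILetI false

namespace CfsgLib.PrimClassSize

universe u v

variable {Q : Type u} [Group Q] {q : ℕ}

/-- The fixed subgroup of one element. -/
def fixedOf {V : Type v} [CommGroup V] (φ : Q →* MulAut V) (a : Q) : Subgroup V where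
  carrier := {x | φ a x = x}
  one_mem' := map_one (φ a)
  mul_mem' {x y} hx hy := by
    show φ a (x * y) = x * y
    rw [map_mul, show φ a x = x from hx, show φ a y = y from hy]
  inv_mem' {x} hx := by
    show φ a x⁻¹ = x⁻¹
    rw [map_inv, show φ a x = x from hx]

theorem mem_fixedOf {V : Type v} [CommGroup V] (φ : Q →* MulAut V) (a : Q) (x : V) :
    x ∈ fixedOf φ a ↔ φ a x = x := Iff.rfl

theorem prod_fixed_le [Fintype Q] [hq : Fact q.Prime] (hQ : IsPGroup q Q) :
    ∀ (n : ℕ) (V : Type v) [CommGroup V] [Finite V], Nat.card V ≤ n → ¬ q ∣ Nat.card V →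
      ∀ φ : Q →* MulAut V, (∀ x : V, (∀ a, φ a x = x) → x = 1) →
        ∏ a : Q, Nat.card (fixedOf φ a) ^ 2 ≤ Nat.card V ^ Fintype.card Q := by
  intro n
  induction n with
  | zero =>
    intro V _ _ hcard
    have : 0 < Nat.card V := Nat.card_pos
    omega
  | succ n ih =>
  intro V _ _ hcard hqV φ hfix
  classical
  rcases subsingleton_or_nontrivial V with hV | hV
  · refine (Finset.prod_le_pow_card _ _ 1 fun a _ => ?_).trans ?_
    · rw [Nat.card_eq_one_iff_unique.2 ⟨inferInstance, inferInstance⟩, one_pow]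
    · rw [one_pow]; exact Nat.one_le_pow _ _ Nat.card_pos
  obtain ⟨x₀, hx₀⟩ := exists_ne (1 : V)
  have hne : ∃ a, φ a ≠ 1 := by
    by_contra! hall
    exact hx₀ (hfix x₀ fun a => by rw [hall a]; rfl)
  have hrange : IsPGroup q φ.range := hQ.of_surjective φ.rangeRestrict φ.rangeRestrict_surjective
  haveI : Nontrivial φ.range := by
    obtain ⟨a, ha⟩ := hne
    exact ⟨⟨φ a, a, rfl⟩, 1, fun h => ha (congrArg Subtype.val h)⟩
  haveI := hrange.center_nontrivial
  obtain ⟨⟨⟨_, z, rfl⟩, hzc⟩, hz1⟩ := exists_ne (1 : Subgroup.center φ.range)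
  have hcomm : ∀ a x, φ a (φ z x) = φ z (φ a x) := fun a x => by
    have := congrArg (fun f : φ.range => (f : MulAut V) x)
      (Subgroup.mem_center_iff.1 hzc ⟨φ a, a, rfl⟩)
    simpa using this
  obtain ⟨d, hd⟩ : ∃ d : V →* V, ∀ x, d x = φ z x / x :=
    ⟨{ toFun := fun x => φ z x / x
       map_one' := by rw [map_one, div_one]
       map_mul' := fun x y => by rw [map_mul, mul_div_mul_comm] }, fun x => rfl⟩
  have hinter : ∀ y ∈ d.range, φ z y = y → y = 1 := by
    rintro _ ⟨x, rfl⟩ hy
    obtain ⟨k, hk⟩ := hQ z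
    have hiter : ∀ i : ℕ, φ (z ^ i) x = d x ^ i * x := by
      intro i
      induction i with
      | zero => simp
      | succ i hi =>
        rw [pow_succ', map_mul, MulAut.mul_apply, hi, map_mul, map_pow, hy,
          show φ z x = d x * x by rw [hd, div_mul_cancel], pow_succ, mul_assoc]
    have h1 := hiter (q ^ k)
    rw [hk, map_one, MulAut.one_apply, right_eq_mul] at h1
    have h2 : orderOf (d x) = 1 := Nat.eq_one_of_dvd_coprimes
      (((hq.out.coprime_iff_not_dvd).2 hqV).pow_left k) (orderOf_dvd_of_pow_eq_one h1)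
      (orderOf_dvd_natCard _)
    exact orderOf_eq_one_iff.1 h2
  have hker : ∀ x, x ∈ d.ker ↔ φ z x = x := fun x => by
    rw [MonoidHom.mem_ker, hd, div_eq_one]
  obtain ⟨ψ, hψ⟩ : ∃ ψ : Q →* MulAut d.ker, ∀ (a : Q) (x : d.ker), ((ψ a x : d.ker) : V) = φ a x := by
    refine ⟨{ toFun := fun a =>
      { toFun := fun x => ⟨φ a x, (hker _).2 (by rw [← hcomm, (hker _).1 x.2])⟩
        invFun := fun x => ⟨φ a⁻¹ x, (hker _).2 (by rw [← hcomm, (hker _).1 x.2])⟩
        left_inv := fun x => Subtype.ext (by simp)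
        right_inv := fun x => Subtype.ext (by simp)
        map_mul' := fun x y => Subtype.ext (map_mul (φ a) _ _) }
              map_one' := ?_
              map_mul' := ?_ }, fun a x => rfl⟩
    · ext x; simp
    · intro a b; ext x; simp
  have hkerne : d.ker ≠ ⊤ := by
    intro h
    refine hz1 (Subtype.ext (Subtype.ext ?_))
    apply MulEquiv.ext
    intro x
    exact (hker x).1 (h ▸ Subgroup.mem_top x)
  have hlt : Nat.card d.ker < Nat.card V := lt_of_le_of_ne
    (Nat.le_of_dvd Nat.card_pos (Subgroup.card_subgroup_dvd_card _))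
    fun h => hkerne (Subgroup.eq_top_of_card_eq _ h)
  have hrec := ih d.ker (by omega) (fun h => hqV (h.trans (Subgroup.card_subgroup_dvd_card _))) ψ
    (fun x hx => Subtype.ext (hfix x fun a => by rw [← hψ, hx]))
  have hsplit : Nat.card d.ker * Nat.card d.range = Nat.card V := by
    rw [← Subgroup.index_ker, Subgroup.card_mul_index]
  have hpart : ∀ a : Q, ∃ m : ℕ, Nat.card (fixedOf φ a) =
      Nat.card (fixedOf ψ a) * m ∧ ∃ R : Subgroup V, Nat.card R = m ∧ R ≤ d.range ⊓ fixedOf φ a := by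
    intro a
    refine ⟨Nat.card ((fixedOf φ a).map d), ?_, (fixedOf φ a).map d, rfl, ?_⟩
    · have h1 := Subgroup.card_mul_index (d.ker.subgroupOf (fixedOf φ a))
      rw [show (d.ker.subgroupOf (fixedOf φ a)).index = d.ker.relIndex (fixedOf φ a) from rfl,
        Subgroup.relIndex_ker] at h1
      rw [← h1]
      congr 1
      refine Nat.card_congr
        { toFun := fun x => ⟨⟨(x : fixedOf φ a), Subgroup.mem_subgroupOf.1 x.2⟩, ?_⟩
          invFun := fun x => ⟨⟨(x : d.ker), ?_⟩, Subgroup.mem_subgroupOf.2 (x : d.ker).2⟩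
          left_inv := fun x => rfl
          right_inv := fun x => rfl }
      · exact Subtype.ext (by rw [hψ]; exact (x : fixedOf φ a).2)
      · rw [mem_fixedOf, ← hψ]
        exact congrArg Subtype.val x.2
    · rintro _ ⟨x, hx, rfl⟩
      refine ⟨⟨x, rfl⟩, ?_⟩
      show φ a (d x) = d x
      rw [hd, map_div, hcomm, show φ a x = x from hx]
  choose m hm R hR hRle using hpart
  have hshift : ∀ a : Q, fixedOf ψ (z * a) = fixedOf ψ a := by
    intro a
    ext x
    rw [mem_fixedOf, mem_fixedOf, map_mul, MulAut.mul_apply]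
    have : ∀ y : d.ker, ψ z y = y := fun y => Subtype.ext (by rw [hψ]; exact (hker _).1 y.2)
    rw [this]
  have hRR : ∀ a : Q, m a * m (z * a) ≤ Nat.card d.range := by
    intro a
    have hdis : ∀ x ∈ R a, x ∈ R (z * a) → x = 1 := by
      intro x hx hx'
      refine hinter x (hRle a hx).1 ?_
      have h1 : φ a x = x := (hRle a hx).2
      have h2 : φ (z * a) x = x := (hRle (z * a) hx').2
      rwa [map_mul, MulAut.mul_apply, h1] at h2
    rw [← hR a, ← hR (z * a), ← Nat.card_prod]
    refine Nat.card_le_card_of_injective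
      (fun x : R a × R (z * a) => (⟨(x.1 : V) * (x.2 : V),
        mul_mem (hRle a x.1.2).1 (hRle (z * a) x.2.2).1⟩ : d.range)) fun x y hxy => ?_
    have h := congrArg Subtype.val hxy
    simp only at h
    have h' : (y.1 : V)⁻¹ * x.1 = y.2 * (x.2 : V)⁻¹ := by
      rw [inv_mul_eq_iff_eq_mul, ← mul_assoc, eq_mul_inv_iff_mul_eq, h]
    have h0 := hdis _ (mul_mem (inv_mem y.1.2) x.1.2) (h' ▸ mul_mem y.2.2 (inv_mem x.2.2))
    have e1 : (x.1 : V) = y.1 := (inv_mul_eq_one.1 h0).symm
    rw [e1] at h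
    exact Prod.ext (Subtype.ext e1) (Subtype.ext (mul_left_cancel h))
  have hshiftprod : ∏ a : Q, m (z * a) = ∏ a : Q, m a :=
    Fintype.prod_equiv (Equiv.mulLeft z) _ _ fun a => rfl
  calc ∏ a : Q, Nat.card (fixedOf φ a) ^ 2
      = (∏ a : Q, Nat.card (fixedOf ψ a) ^ 2) * ∏ a : Q, (m a * m (z * a)) := by
        rw [Finset.prod_mul_distrib, hshiftprod, ← Finset.prod_mul_distrib, ← Finset.prod_mul_distrib]
        refine Finset.prod_congr rfl fun a _ => ?_
        rw [hm a]; ring
    _ ≤ Nat.card d.ker ^ Fintype.card Q * Nat.card d.range ^ Fintype.card Q :=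
        Nat.mul_le_mul hrec (Finset.prod_le_pow_card _ _ _ fun a _ => hRR a)
    _ = Nat.card V ^ Fintype.card Q := by rw [← mul_pow, hsplit]

/-- An element with at most the square root of the points fixed. -/
theorem exists_small_fixed [Finite Q] [hq : Fact q.Prime] (hQ : IsPGroup q Q) {V : Type v}
    [CommGroup V] [Finite V] (hqV : ¬ q ∣ Nat.card V) (φ : Q →* MulAut V)
    (hfix : ∀ x : V, (∀ a, φ a x = x) → x = 1) :
    ∃ a : Q, Nat.card (fixedOf φ a) ^ 2 ≤ Nat.card V := by
  haveI := Fintype.ofFinite Q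
  by_contra! h
  have h1 := prod_fixed_le hQ (Nat.card V) V le_rfl hqV φ hfix
  have h2 : ∏ _a : Q, Nat.card V < ∏ a : Q, Nat.card (fixedOf φ a) ^ 2 :=
    Finset.prod_lt_prod_of_nonempty (fun a _ => Nat.card_pos) (fun a _ => h a)
      Finset.univ_nonempty
  rw [Finset.prod_const, Finset.card_univ] at h2
  omega

end CfsgLib.PrimClassSize
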