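import Cfsg.Agent.PrimClassSize.SolvablePart
import Mathlib.Algebra.BigOperators.Group.Finset.Basic

/-!
Fixed points of a solvable irreducible linear group are on average at most half of the space (in
exponent), and the resulting sharp bound for the `p`-part of a primitive character degree.
-/

set_option autoImplicit false
set_option linter.style.haveILetI false
set_option linter.unusedSectionVars false

namespace CfsgLib.PrimClassSize

open CfsgLib.Char Subgroup

universe u v

section Coset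

variable {V : Type v} [CommGroup V] [Finite V] {R : Type u} [Group R] (φ : R →* MulAut V)

/-- The common fixed points of a subgroup. -/
def fixSet (M : Subgroup R) : Subgroup V := ⨅ m : M, fixedOf φ (m : R)

theorem mem_fixSet {M : Subgroup R} {x : V} : x ∈ fixSet φ M ↔ ∀ m ∈ M, φ m x = x := by
  simp [fixSet, mem_iInf, mem_fixedOf]

/-- The product over the translates under a finite subgroup. -/
noncomputable def nrm [Finite R] (M : Subgroup R) : V →* V :=
  haveI := Fintype.ofFinite M
  { toFun := fun x => ∏ m : M, φ (m : R) x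
    map_one' := by simp
    map_mul' := fun x y => by simp [Finset.prod_mul_distrib] }

variable [Finite R]

theorem nrm_apply (M : Subgroup R) [Fintype M] (x : V) : nrm φ M x = ∏ m : M, φ (m : R) x := by
  show Finset.prod (@Finset.univ M (Fintype.ofFinite M)) (fun m : M => φ (m : R) x) = _
  exact Finset.prod_congr (Finset.ext fun a => by simp) fun _ _ => rfl

theorem nrm_mem {M : Subgroup R} {K : Subgroup V} (hK : ∀ m ∈ M, ∀ x ∈ K, φ m x ∈ K) {x : V}
    (hx : x ∈ K) : nrm φ M x ∈ K := by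
  haveI := Fintype.ofFinite M
  rw [nrm_apply]
  exact K.prod_mem fun m _ => hK m m.2 x hx

theorem nrm_fixed (M : Subgroup R) (x : V) : nrm φ M x ∈ fixSet φ M := by
  haveI := Fintype.ofFinite M
  rw [mem_fixSet]
  intro m hm
  rw [nrm_apply, map_prod]
  exact Fintype.prod_equiv (Equiv.mulLeft (⟨m, hm⟩ : M)) _ _ fun a => by simp

theorem nrm_of_fixed {M : Subgroup R} {x : V} (hx : x ∈ fixSet φ M) :
    nrm φ M x = x ^ Nat.card M := by
  haveI := Fintype.ofFinite M
  rw [nrm_apply, Finset.prod_congr rfl fun (m : M) _ => (mem_fixSet φ).1 hx m m.2,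
    Finset.prod_const, Finset.card_univ, Nat.card_eq_fintype_card]

theorem nrm_conj (M : Subgroup R) (g : R) (x : V) :
    φ g (nrm φ M x) = nrm φ (M.map (MulAut.conj g).toMonoidHom) (φ g x) := by
  haveI := Fintype.ofFinite M
  haveI := Fintype.ofFinite (M.map (MulAut.conj g).toMonoidHom)
  rw [nrm_apply, nrm_apply, map_prod]
  refine Fintype.prod_equiv
    (M.equivMapOfInjective (MulAut.conj g).toMonoidHom (MulAut.conj g).injective).toEquiv _ _
    fun a => ?_
  show φ g (φ a x) = φ (g * a * g⁻¹) (φ g x)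
  rw [← MulAut.mul_apply, ← MulAut.mul_apply, ← map_mul, ← map_mul, inv_mul_cancel_right]

theorem nrm_comm {M : Subgroup R} {z : R} (hz : ∀ m ∈ M, z * m = m * z) (x : V) :
    φ z (nrm φ M x) = nrm φ M (φ z x) := by
  haveI := Fintype.ofFinite M
  rw [nrm_apply, nrm_apply, map_prod]
  refine Finset.prod_congr rfl fun m _ => ?_
  rw [← MulAut.mul_apply, ← MulAut.mul_apply, ← map_mul, ← map_mul, hz m m.2]

theorem card_mul_le_of_disjoint {A B C : Subgroup V} (hA : A ≤ C) (hB : B ≤ C) (h : A ⊓ B = ⊥) :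
    Nat.card A * Nat.card B ≤ Nat.card C := by
  rw [← Nat.card_prod]
  exact Nat.card_le_card_of_injective
    (fun x : A × B => (⟨(x.1 : V) * x.2, mul_mem (hA x.1.2) (hB x.2.2)⟩ : C))
    fun x y hxy => mul_injective_of_disjoint (disjoint_iff.2 h) (congrArg Subtype.val hxy)

/-- On a coset `g Z` of an abelian operator group `Z` without fixed points, the fixed spaces have
at most half the size on average. -/
theorem coset_prod_le (Z : Subgroup R) [Fintype Z] (hab : ∀ a ∈ Z, ∀ b ∈ Z, a * b = b * a)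
    (hcop : (Nat.card Z).Coprime (Nat.card V)) (g : R)
    (hg : Z.map (MulAut.conj g).toMonoidHom = Z)
    (hfix : ∀ x : V, (∀ z ∈ Z, φ z x = x) → x = 1) :
    ∀ (n : ℕ) (K : Subgroup V), Nat.card K ≤ n → (∀ x ∈ K, φ g x ∈ K) →
      (∀ z ∈ Z, ∀ x ∈ K, φ z x ∈ K) →
      ∏ z : Z, Nat.card (fixedOf φ (g * z) ⊓ K : Subgroup V) ^ 2 ≤
        Nat.card K ^ Fintype.card Z := by
  intro n
  induction n with
  | zero => intro K h; exact absurd (Nat.card_pos (α := K)) (by omega)
  | succ n ih =>
  intro K hKn hKg hKZ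
  rcases eq_or_ne K ⊥ with rfl | hK0
  · simp
  obtain ⟨M, hMmax⟩ : ∃ M : Subgroup R,
      Maximal (fun M : Subgroup R => M ≤ Z ∧ fixSet φ M ⊓ K ≠ ⊥) M := by
    refine Set.Finite.exists_maximal (Set.toFinite _) ⟨⊥, bot_le, ?_⟩
    rw [inf_eq_right.2 fun x _ => (mem_fixSet φ).2 fun m hm => by
      rw [mem_bot.1 hm, map_one, MulAut.one_apply]]
    exact hK0
  obtain ⟨hMZ, hMW⟩ := hMmax.prop
  have hbig : ∀ M', M ≤ M' → M' ≤ Z → ¬ M' ≤ M → fixSet φ M' ⊓ K = ⊥ := fun M' h1 h2 h3 => by
    by_contra h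
    exact h3 (hMmax.2 ⟨h2, h⟩ h1)
  -- the translates of `M`
  obtain ⟨Mc, hMc⟩ : ∃ Mc : ℤ → Subgroup R,
      ∀ k, Mc k = M.map (MulAut.conj (g ^ k)).toMonoidHom := ⟨_, fun k => rfl⟩
  have hMc0 : Mc 0 = M := by
    rw [hMc]; ext x; simp [mem_map]
  have hMcS : ∀ k, (Mc k).map (MulAut.conj g).toMonoidHom = Mc (k + 1) := fun k => by
    rw [hMc, hMc, Subgroup.map_map]
    congr 1
    ext x
    simp [add_comm k 1, zpow_one_add, mul_assoc]
  have hgN : g ∈ normalizer (Z : Set R) := mem_normalizer_iff_map_conj_eq.2 hg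
  have hMcZ : ∀ k, Mc k ≤ Z := fun k => by
    rw [hMc]
    rintro _ ⟨m, hm, rfl⟩
    exact (mem_normalizer_iff.1 (zpow_mem hgN k) m).1 (hMZ hm)
  have hcommk : ∀ (k : ℤ) (z : R), z ∈ Z → ∀ m ∈ Mc k, z * m = m * z :=
    fun k z hz m hm => hab z hz m (hMcZ k hm)
  obtain ⟨K', hK'⟩ : ∃ K' : Subgroup V, K' = K ⊓ ⨅ k : ℤ, (nrm φ (Mc k)).ker := ⟨_, rfl⟩
  have memK' : ∀ x, x ∈ K' ↔ x ∈ K ∧ ∀ k : ℤ, nrm φ (Mc k) x = 1 := fun x => by
    simp [hK', mem_iInf]
  have hK'le : K' ≤ K := hK'.le.trans inf_le_left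
  set W := fixSet φ M ⊓ K with hW
  have hpow : ∀ (M' : Subgroup R), M' ≤ Z → ∀ w : V, w ^ Nat.card M' = 1 → w = 1 := by
    intro M' hM' w hw
    exact orderOf_eq_one_iff.1 (Nat.eq_one_of_dvd_coprimes
      (hcop.coprime_dvd_left (card_dvd_of_le hM')) (orderOf_dvd_of_pow_eq_one hw)
      (orderOf_dvd_natCard w))
  have hWK' : W ⊓ K' = ⊥ := by
    rw [eq_bot_iff]
    intro w hw
    obtain ⟨hw1, hw2⟩ := mem_inf.1 hw
    have h1 := ((memK' w).1 hw2).2 0
    rw [hMc0, nrm_of_fixed φ (mem_inf.1 hw1).1] at h1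
    exact mem_bot.2 (hpow M hMZ w h1)
  have hK'g : ∀ x ∈ K', φ g x ∈ K' := by
    intro x hx
    rw [memK'] at hx ⊢
    refine ⟨hKg x hx.1, fun k => ?_⟩
    have h1 := nrm_conj φ (Mc (k - 1)) g x
    rw [hMcS, sub_add_cancel, hx.2, map_one] at h1
    exact h1.symm
  have hK'Z : ∀ z ∈ Z, ∀ x ∈ K', φ z x ∈ K' := by
    intro z hz x hx
    rw [memK'] at hx ⊢
    refine ⟨hKZ z hz x hx.1, fun k => ?_⟩
    rw [← nrm_comm φ (hcommk k z hz), hx.2, map_one]
  have hlt : Nat.card K' < Nat.card K := by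
    refine lt_of_not_ge fun h => hMW ?_
    rw [← hWK', Subgroup.eq_of_le_of_card_ge hK'le h, inf_assoc, inf_idem]
  have hrec := ih K' (by omega) hK'g hK'Z
  -- the contribution of the first projection
  let r : Z → ℕ := fun z => Nat.card ((fixedOf φ (g * z) ⊓ K).map (nrm φ M))
  have hshift : ∀ (z : Z) (k : ℤ) (x : V), φ (g * z) x = x →
      φ (g * z) (nrm φ (Mc k) x) = nrm φ (Mc (k + 1)) x := by
    intro z k x hx
    rw [nrm_conj φ (Mc k) (g * z) x, hx, ← hMcS k]
    congr 2
    ext y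
    constructor <;> rintro ⟨m, hm, rfl⟩ <;> refine ⟨m, hm, ?_⟩ <;>
      simp [hcommk k z z.2 m hm, mul_assoc]
  have hdec : ∀ z : Z, Nat.card (fixedOf φ (g * z) ⊓ K : Subgroup V) =
      Nat.card (fixedOf φ (g * z) ⊓ K' : Subgroup V) * r z := by
    intro z
    obtain ⟨F, hF⟩ : ∃ F : Subgroup V, F = fixedOf φ (g * z) ⊓ K := ⟨_, rfl⟩
    have h1 := Subgroup.card_mul_index ((nrm φ M).ker.subgroupOf F)
    rw [show ((nrm φ M).ker.subgroupOf F).index = (nrm φ M).ker.relIndex F from rfl,
      Subgroup.relIndex_ker] at h1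
    show _ = _ * Nat.card ((fixedOf φ (g * z) ⊓ K).map (nrm φ M))
    rw [← hF, ← h1, ← Subgroup.inf_subgroupOf_right,
      Nat.card_congr (subgroupOfEquivOfLe (inf_le_right : (nrm φ M).ker ⊓ F ≤ F)).toEquiv]
    suffices he : (nrm φ M).ker ⊓ F = fixedOf φ (g * z) ⊓ K' by rw [he]
    refine le_antisymm (fun x hx => ?_) (fun x hx => ?_)
    · obtain ⟨hx0, hxF⟩ := mem_inf.1 hx
      rw [hF] at hxF
      obtain ⟨hxg, hxK⟩ := mem_inf.1 hxF
      refine mem_inf.2 ⟨hxg, (memK' x).2 ⟨hxK, fun k => ?_⟩⟩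
      induction k using Int.induction_on with
      | zero => rw [hMc0]; exact hx0
      | succ k hk => rw [← hshift z _ x hxg, hk, map_one]
      | pred k hk =>
        have h2 := hshift z (-(k : ℤ) - 1) x hxg
        rw [sub_add_cancel, hk] at h2
        exact (φ (g * z)).injective (h2.trans (map_one _).symm)
    · obtain ⟨hxg, hxK⟩ := mem_inf.1 hx
      exact mem_inf.2 ⟨by simpa [hMc0] using ((memK' x).1 hxK).2 0,
        hF ▸ mem_inf.2 ⟨hxg, hK'le hxK⟩⟩
  have hKM : ∀ m ∈ M, ∀ x ∈ K, φ m x ∈ K := fun m hm => hKZ m (hMZ hm)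
  have hrW : ∀ z : Z, (fixedOf φ (g * z) ⊓ K).map (nrm φ M) ≤ W := by
    rintro z _ ⟨x, hx, rfl⟩
    exact mem_inf.2 ⟨nrm_fixed φ M x, nrm_mem φ hKM (mem_inf.1 hx).2⟩
  have hr : (∏ z : Z, r z ^ 2) * Nat.card K' ^ Fintype.card Z ≤
      Nat.card K ^ Fintype.card Z := by
    by_cases hcase : Mc 1 = M
    · -- `M` is normalized
      have hWc : ∀ z : Z, (fixedOf φ (g * z) ⊓ K).map (nrm φ M) ≤ fixedOf φ (g * z) := by
        rintro z _ ⟨x, hx, rfl⟩
        rw [mem_fixedOf]
        have h1 := hshift z 0 x (mem_inf.1 hx).1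
        rw [zero_add, hcase, hMc0] at h1
        exact h1
      obtain ⟨c, hcZ, hcM⟩ : ∃ c, c ∈ Z ∧ c ∉ M := by
        by_contra! hall
        refine hMW ((Subgroup.eq_bot_iff_forall _).2 fun x hx => hfix x fun z hz => ?_)
        exact (mem_fixSet φ).1 (mem_inf.1 hx).1 z (hall z hz)
      have hsup := hbig (M ⊔ zpowers c) le_sup_left (sup_le hMZ (zpowers_le.2 hcZ))
        fun h => hcM (h (mem_sup_right (mem_zpowers c)))
      have hpair : ∀ z : Z, r z * r (z * ⟨c, hcZ⟩) ≤ Nat.card W := by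
        intro z
        refine card_mul_le_of_disjoint (hrW _) (hrW _) (eq_bot_iff.2 fun x hx => ?_)
        obtain ⟨hx1, hx2⟩ := mem_inf.1 hx
        have h1 : φ (g * (z : R)) x = x := hWc _ hx1
        have h2 : φ (g * ((z : R) * c)) x = x := hWc _ hx2
        have h3 : φ c x = x := by
          rw [← mul_assoc, map_mul, MulAut.mul_apply] at h2
          exact (φ (g * (z : R))).injective (h2.trans h1.symm)
        rw [← hsup]
        refine mem_inf.2 ⟨(mem_fixSet φ).2 fun m hm => ?_, (mem_inf.1 (hrW z hx1)).2⟩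
        have : M ⊔ zpowers c ≤ (MulAction.stabilizer (MulAut V) x).comap φ :=
          sup_le (fun m hm => (mem_fixSet φ).1 (mem_inf.1 (hrW z hx1)).1 m hm) (zpowers_le.2 h3)
        exact this hm
      have hreidx : ∏ z : Z, r (z * ⟨c, hcZ⟩) = ∏ z : Z, r z :=
        Equiv.prod_comp (Equiv.mulRight (⟨c, hcZ⟩ : Z)) r
      calc (∏ z : Z, r z ^ 2) * Nat.card K' ^ Fintype.card Z
          = (∏ z : Z, r z * r (z * ⟨c, hcZ⟩)) * Nat.card K' ^ Fintype.card Z := by
            rw [Finset.prod_pow, Finset.prod_mul_distrib, hreidx, sq]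
        _ ≤ Nat.card W ^ Fintype.card Z * Nat.card K' ^ Fintype.card Z :=
            Nat.mul_le_mul_right _ (Finset.prod_le_pow_card _ _ _ fun z _ => hpair z)
        _ ≤ _ := by
            rw [← mul_pow]
            exact Nat.pow_le_pow_left (card_mul_le_of_disjoint inf_le_right hK'le hWK') _
    · -- `M` is moved
      have hne : ¬ Mc 1 ≤ M := fun h => hcase (Subgroup.eq_of_le_of_card_ge h
        (le_of_eq (by rw [hMc, card_map_of_injective (MulAut.conj (g ^ (1 : ℤ))).injective])))
      have hsup := hbig (M ⊔ Mc 1) le_sup_left (sup_le hMZ (hMcZ 1))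
        fun h => hne (le_sup_right.trans h)
      have hmem : ∀ y, y ∈ fixSet φ M → y ∈ fixSet φ (Mc 1) → y ∈ K → y = 1 := by
        intro y h1 h2 h3
        rw [← mem_bot, ← hsup]
        refine mem_inf.2 ⟨(mem_fixSet φ).2 fun m hm => ?_, h3⟩
        have : M ⊔ Mc 1 ≤ (MulAction.stabilizer (MulAut V) y).comap φ :=
          sup_le ((mem_fixSet φ).1 h1) ((mem_fixSet φ).1 h2)
        exact this hm
      set W1 := fixSet φ (Mc 1) ⊓ K with hW1
      have hWW1 : Nat.card W ≤ Nat.card W1 := by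
        suffices hw : ∀ w ∈ W, φ g w ∈ W1 from
          Nat.card_le_card_of_injective (fun w : W => (⟨φ g w, hw w w.2⟩ : W1))
            fun a b h => Subtype.ext ((φ g).injective (congrArg Subtype.val h))
        intro w hw
        refine mem_inf.2 ⟨(mem_fixSet φ).2 fun m hm => ?_, hKg w (mem_inf.1 hw).2⟩
        rw [← zero_add (1 : ℤ), ← hMcS, hMc0] at hm
        obtain ⟨b, hb, rfl⟩ := hm
        show φ (g * b * g⁻¹) (φ g w) = φ g w
        rw [← MulAut.mul_apply, ← map_mul, inv_mul_cancel_right, map_mul, MulAut.mul_apply,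
          (mem_fixSet φ).1 (mem_inf.1 hw).1 b hb]
      have hd1 : W ⊓ W1 = ⊥ := eq_bot_iff.2 fun y hy => mem_bot.2
        (hmem y (mem_inf.1 (mem_inf.1 hy).1).1 (mem_inf.1 (mem_inf.1 hy).2).1
          (mem_inf.1 (mem_inf.1 hy).1).2)
      have hd2 : (W ⊔ W1) ⊓ K' = ⊥ := by
        rw [eq_bot_iff]
        intro y hy
        obtain ⟨hy1, hy2⟩ := mem_inf.1 hy
        obtain ⟨w, hw, w1, hw1, rfl⟩ := mem_sup.1 hy1
        obtain ⟨hwf, hwK⟩ := mem_inf.1 hw
        obtain ⟨hw1f, hw1K⟩ := mem_inf.1 hw1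
        have hall := ((memK' _).1 hy2).2
        have e0 := hall 0
        have e1 := hall 1
        rw [map_mul] at e0 e1
        rw [hMc0] at e0
        have hwf' : ∀ m ∈ Mc 1, φ m (nrm φ M w1) = nrm φ M w1 := fun m hm => by
          rw [nrm_comm φ (fun k hk => hab m (hMcZ 1 hm) k (hMZ hk)),
            (mem_fixSet φ).1 hw1f m hm]
        have hw1f' : ∀ m ∈ M, φ m (nrm φ (Mc 1) w) = nrm φ (Mc 1) w := fun m hm => by
          rw [nrm_comm φ (hcommk 1 m (hMZ hm)), (mem_fixSet φ).1 hwf m hm]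
        have h0 : nrm φ M w1 = 1 := hmem _ (nrm_fixed φ M w1) ((mem_fixSet φ).2 hwf')
          (nrm_mem φ hKM hw1K)
        have h1 : nrm φ (Mc 1) w = 1 := hmem _ ((mem_fixSet φ).2 hw1f') (nrm_fixed φ _ w)
          (nrm_mem φ (fun m hm => hKZ m (hMcZ 1 hm)) hwK)
        rw [h0, mul_one, nrm_of_fixed φ hwf] at e0
        rw [h1, one_mul, nrm_of_fixed φ hw1f] at e1
        rw [mem_bot, hpow M hMZ w e0, hpow _ (hMcZ 1) w1 e1, one_mul]
      have hWW : Nat.card W * Nat.card W * Nat.card K' ≤ Nat.card K :=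
        (Nat.mul_le_mul_right _ ((Nat.mul_le_mul_left _ hWW1).trans
          (card_mul_le_of_disjoint le_sup_left le_sup_right hd1))).trans
          (card_mul_le_of_disjoint (sup_le inf_le_right inf_le_right) hK'le hd2)
      calc (∏ z : Z, r z ^ 2) * Nat.card K' ^ Fintype.card Z
          ≤ (Nat.card W * Nat.card W) ^ Fintype.card Z * Nat.card K' ^ Fintype.card Z := by
            refine Nat.mul_le_mul_right _ (Finset.prod_le_pow_card _ _ _ fun z _ => ?_)
            rw [sq]
            exact Nat.mul_le_mul (Subgroup.card_le_of_le (hrW z)) (Subgroup.card_le_of_le (hrW z))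
        _ ≤ _ := by rw [← mul_pow]; exact Nat.pow_le_pow_left hWW _
  calc ∏ z : Z, Nat.card (fixedOf φ (g * z) ⊓ K : Subgroup V) ^ 2
      = (∏ z : Z, Nat.card (fixedOf φ (g * z) ⊓ K' : Subgroup V) ^ 2) * ∏ z : Z, r z ^ 2 := by
        rw [← Finset.prod_mul_distrib]
        exact Finset.prod_congr rfl fun z _ => by rw [hdec z, mul_pow]
    _ ≤ Nat.card K' ^ Fintype.card Z * ∏ z : Z, r z ^ 2 := Nat.mul_le_mul_right _ hrec
    _ ≤ _ := by rw [mul_comm]; exact hr

end Coset

/-- With an abelian normal coprime fixed-point-free part, fixed spaces are on average at most half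
of the space. -/
theorem prod_fixed_sq_le {V : Type v} [CommGroup V] [Finite V] {H : Type u} [Group H] [Fintype H]
    (φ : H →* MulAut V) (Z : Subgroup (MulAut V)) [Fintype Z] (hZφ : Z ≤ φ.range)
    (hnorm : ∀ g : H, Z.map (MulAut.conj (φ g)).toMonoidHom = Z)
    (hab : ∀ a ∈ Z, ∀ b ∈ Z, a * b = b * a) (hcop : (Nat.card Z).Coprime (Nat.card V))
    (hfix : ∀ x : V, (∀ z ∈ Z, z x = x) → x = 1) :
    (∏ g : H, Nat.card (fixedOf φ g)) ^ 2 ≤ Nat.card V ^ Fintype.card H := by
  choose s hs using fun z : Z => hZφ z.2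
  set P := ∏ g : H, Nat.card (fixedOf φ g) with hP
  have h : ∀ g : H, ∏ z : Z, Nat.card (fixedOf φ (g * s z)) ^ 2 ≤ Nat.card V ^ Fintype.card Z := by
    intro g
    have h1 := coset_prod_le (MonoidHom.id (MulAut V)) Z hab hcop (φ g) (hnorm g) hfix
      (Nat.card V) ⊤ (le_of_eq Subgroup.card_top) (fun _ _ => mem_top _) (fun _ _ _ _ => mem_top _)
    rw [Subgroup.card_top] at h1
    refine le_of_eq_of_le (Finset.prod_congr rfl fun z _ => ?_) h1
    have he : fixedOf φ (g * s z) = fixedOf (MonoidHom.id (MulAut V)) (φ g * z) := by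
      ext x
      rw [mem_fixedOf, mem_fixedOf, map_mul, hs]
      rfl
    rw [he, inf_top_eq]
  refine (Nat.pow_le_pow_iff_left (show Fintype.card Z ≠ 0 from Fintype.card_ne_zero)).1 ?_
  calc (P ^ 2) ^ Fintype.card Z = ∏ z : Z, ∏ g : H, Nat.card (fixedOf φ (g * s z)) ^ 2 := by
        rw [← Finset.card_univ, ← Finset.prod_const]
        refine Finset.prod_congr rfl fun z _ => ?_
        rw [hP, ← Finset.prod_pow]
        exact (Equiv.prod_comp (Equiv.mulRight (s z)) fun g => Nat.card (fixedOf φ g) ^ 2).symm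
    _ = ∏ g : H, ∏ z : Z, Nat.card (fixedOf φ (g * s z)) ^ 2 := Finset.prod_comm
    _ ≤ (Nat.card V ^ Fintype.card Z) ^ Fintype.card H :=
        Finset.prod_le_pow_card _ _ _ fun g _ => h g
    _ = (Nat.card V ^ Fintype.card H) ^ Fintype.card Z := pow_right_comm _ _ _

/-- A nontrivial irreducible solvable linear group fixes at most half of the space on average. -/
theorem prod_fixed_le_half {p : ℕ} [hp : Fact p.Prime] {V : Type v} [CommGroup V]
    [Finite V] (hV : IsPGroup p V) {H : Type u} [Group H] [Fintype H] [Group.IsSolvable H]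
    (φ : H →* MulAut V)
    (hirr : ∀ W : Subgroup V, (∀ h : H, ∀ w ∈ W, φ h w ∈ W) → W = ⊥ ∨ W = ⊤)
    (hnt : ∃ h x, φ h x ≠ x) :
    (∏ g : H, Nat.card (fixedOf φ g)) ^ 2 ≤ Nat.card V ^ Fintype.card H := by
  classical
  set R := φ.range with hR
  haveI : Group.IsSolvable R :=
    Group.isSolvable_of_surjective φ.rangeRestrict_surjective
  haveI : Nontrivial R := by
    obtain ⟨h, x, hx⟩ := hnt
    refine ⟨⟨φ.rangeRestrict h, 1, fun he => hx ?_⟩⟩
    have : φ h = 1 := congrArg Subtype.val he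
    rw [this]; rfl
  obtain ⟨q, hq, hQ⟩ : ∃ q : ℕ, q.Prime ∧ Cfsg.pCore q R ≠ ⊥ := by
    by_contra! hno
    have hF : Cfsg.fittingSubgroup R = ⊥ := by
      rw [CfsgLib.Solvable.fittingSubgroup_eq_iSup_pCore]
      exact iSup_eq_bot.2 fun q => hno q q.2
    obtain ⟨x, hx⟩ := exists_ne (1 : R)
    have h1 := CfsgLib.Fitting.centralizer_fittingSubgroup_le_of_solvable (G := R)
    rw [hF] at h1
    exact hx (mem_bot.1 (h1 (mem_centralizer_iff.2 fun y hy => by
      rw [mem_bot.1 hy, one_mul, mul_one])))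
  haveI := Fact.mk hq
  set B := (Cfsg.pCore q R) with hB
  haveI hBn : B.Normal := CfsgLib.Solvable.pCore_normal q
  have hBp : IsPGroup q B := CfsgLib.Solvable.isPGroup_pCore q
  let ψ : B →* MulAut V := R.subtype.comp B.subtype
  have hne : ∀ h : H, ∀ b : B, ∃ b' : B, (b' : R).1 = φ h * (b : R).1 * (φ h)⁻¹ := fun h b =>
    ⟨⟨φ.rangeRestrict h * b * (φ.rangeRestrict h)⁻¹, hBn.conj_mem _ b.2 _⟩, rfl⟩
  let W : Subgroup V :=
    { carrier := {x | ∀ b : B, ψ b x = x}
      one_mem' := fun b => map_one _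
      mul_mem' := fun {x y} hx hy b => by rw [map_mul, hx b, hy b]
      inv_mem' := fun {x} hx b => by rw [map_inv, hx b] }
  have hWinv : ∀ h : H, ∀ w ∈ W, φ h w ∈ W := fun h w hw b => by
    obtain ⟨b', hb'⟩ := hne h⁻¹ b
    have h1 : ψ b' w = w := hw b'
    have h2 : ψ b' = φ h⁻¹ * ψ b * (φ h⁻¹)⁻¹ := hb'
    rw [h2, map_inv, inv_inv, MulAut.mul_apply, MulAut.mul_apply] at h1
    have h3 := congrArg (φ h) h1
    rwa [MulAut.inv_def, MulEquiv.apply_symm_apply] at h3
  have hW : W = ⊥ := by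
    refine (hirr W hWinv).resolve_right fun htop => hQ ?_
    refine (Subgroup.eq_bot_iff_forall _).2 fun b hb => Subtype.ext ?_
    exact MulEquiv.ext fun x => (show x ∈ W by rw [htop]; exact mem_top x) ⟨b, hb⟩
  have hqp : q ≠ p := by
    intro he; subst he
    letI : MulAction B V := MulAction.compHom V ψ
    obtain ⟨h, x, hx⟩ := hnt
    haveI : Nontrivial V := nontrivial_of_ne _ _ hx
    have hdvd : q ∣ Nat.card V := by
      obtain ⟨k, hk⟩ := IsPGroup.iff_card.1 hV
      rw [hk]
      refine dvd_pow_self q fun h0 => ?_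
      rw [h0, pow_zero] at hk
      exact (Finite.one_lt_card (α := V)).ne' hk
    obtain ⟨y, hy, hy1⟩ := hBp.exists_fixed_point_of_prime_dvd_card_of_fixed_point V hdvd
      (a := 1) (fun b => map_one (ψ b))
    have : y ∈ W := fun b => hy b
    rw [hW, mem_bot] at this
    exact hy1 this.symm
  have hqV : ¬ q ∣ Nat.card V := by
    obtain ⟨k, hk⟩ := IsPGroup.iff_card.1 hV
    rw [hk]
    exact fun h => hqp ((Nat.prime_dvd_prime_iff_eq hq hp.out).1 (hq.dvd_of_dvd_pow h))
  haveI : Nontrivial B := (Subgroup.nontrivial_iff_ne_bot _).2 hQ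
  haveI := hBp.center_nontrivial
  set C := (Subgroup.center B).map B.subtype with hC
  haveI hCn : C.Normal := ConjAct.normal_of_characteristic_of_normal
  haveI := Fintype.ofFinite (C.map R.subtype)
  refine prod_fixed_sq_le φ (C.map R.subtype) (map_subtype_le C) ?_ ?_ ?_ ?_
  · intro g
    rw [Subgroup.map_map, show (MulAut.conj (φ g)).toMonoidHom.comp R.subtype =
      R.subtype.comp (MulAut.conj (φ.rangeRestrict g)).toMonoidHom from rfl, ← Subgroup.map_map]
    congr 1
    exact mem_normalizer_iff_map_conj_eq.1 (le_normalizer_of_normal (mem_top _))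
  · rintro _ ⟨_, ⟨a, ha, rfl⟩, rfl⟩ _ ⟨_, ⟨b, -, rfl⟩, rfl⟩
    exact congrArg (fun x : B => ((x : R) : MulAut V)) ((mem_center_iff.1 ha b).symm)
  · obtain ⟨i, hi⟩ := IsPGroup.iff_card.1 ((hBp.to_subgroup (Subgroup.center B)).map B.subtype |>.map R.subtype)
    rw [hi]
    exact Nat.Coprime.pow_left _ ((Nat.Prime.coprime_iff_not_dvd hq).2 hqV)
  · intro x hx
    let W' : Subgroup V :=
      { carrier := {x | ∀ z ∈ C.map R.subtype, z x = x}
        one_mem' := fun z _ => map_one _
        mul_mem' := fun {x y} hx hy z hz => by rw [map_mul, hx z hz, hy z hz]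
        inv_mem' := fun {x} hx z hz => by rw [map_inv, hx z hz] }
    have hW' : ∀ h : H, ∀ w ∈ W', φ h w ∈ W' := by
      rintro h w hw _ ⟨c, hc, rfl⟩
      have h1 := hw _ (mem_map_of_mem _ (hCn.conj_mem c hc (φ.rangeRestrict h)⁻¹))
      simp only [Subgroup.coe_subtype, Subgroup.coe_mul, Subgroup.coe_inv, inv_inv,
        MonoidHom.coe_rangeRestrict, MulAut.mul_apply] at h1
      have h2 := congrArg (φ h) h1
      rwa [MulAut.inv_def, MulEquiv.apply_symm_apply] at h2
    rcases hirr W' hW' with hb | ht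
    · exact mem_bot.1 (hb ▸ (show x ∈ W' from hx))
    · exfalso
      obtain ⟨⟨c, hc⟩, hc1⟩ := exists_ne (1 : Subgroup.center B)
      refine hc1 (Subtype.ext (Subtype.ext (Subtype.ext (MulEquiv.ext fun y => ?_))))
      exact (show y ∈ W' from ht ▸ mem_top y) _ (mem_map_of_mem _ (mem_map_of_mem _ hc))

/-! ### Consequences along a chief series -/

variable {G : Type u} [Group G] [Fintype G]

/-- The average fixed-point bound on a chief factor, additively in exponents. -/
theorem sum_fixed_exp_le_half {p : ℕ} [hp : Fact p.Prime] [Group.IsSolvable G] {L : Subgroup G}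
    [L.Normal] (W : Subgroup (G ⧸ L)) [W.Normal] (hab : IsMulCommutative W) {d : ℕ}
    (hd : Nat.card W = p ^ d)
    (hmin : ∀ N : Subgroup (G ⧸ L), N.Normal → N ≤ W → N = ⊥ ∨ N = W)
    (hnc : ¬ W ≤ center (G ⧸ L)) (f : G → ℕ)
    (hf : ∀ g : G, Nat.card
      (W ⊓ centralizer ({(QuotientGroup.mk' L g)} : Set (G ⧸ L)) : Subgroup (G ⧸ L)) = p ^ f g) :
    2 * ∑ g : G, f g ≤ d * Fintype.card G := by
  classical
  haveI := hab
  letI : CommGroup W := { (inferInstance : Group W) with mul_comm := hab.is_comm.comm }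
  let φ : G →* MulAut W := MulAut.conjNormal.comp (QuotientGroup.mk' L)
  have hcard : ∀ g : G, Nat.card (fixedOf φ g) = p ^ f g := fun g => by
    rw [← hf g]
    refine Nat.card_congr
      ⟨fun x => ⟨((x : W) : G ⧸ L), ((x : W).2 : _), ?_⟩,
        fun x => ⟨⟨(x : G ⧸ L), x.2.1⟩, ?_⟩, fun x => rfl, fun x => rfl⟩
    · have h := congrArg Subtype.val x.2
      simp only [φ, MonoidHom.comp_apply, MulAut.conjNormal_apply] at h
      exact mem_centralizer_singleton_iff.2 (mul_inv_eq_iff_eq_mul.1 h).symm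
    · have h := mem_centralizer_singleton_iff.1 x.2.2
      refine Subtype.ext ?_
      simp only [φ, MonoidHom.comp_apply, MulAut.conjNormal_apply]
      exact mul_inv_eq_iff_eq_mul.2 h.symm
  have hWp : IsPGroup p W := IsPGroup.of_card hd
  have hirr : ∀ U : Subgroup W, (∀ h : G, ∀ w ∈ U, φ h w ∈ U) → U = ⊥ ∨ U = ⊤ := by
    intro U hU
    haveI : (U.map W.subtype).Normal := ⟨by
      rintro _ ⟨w, hw, rfl⟩ x
      obtain ⟨g, rfl⟩ := QuotientGroup.mk'_surjective L x
      exact ⟨φ g w, hU g w hw, rfl⟩⟩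
    rcases hmin _ ‹_› (map_subtype_le U) with h | h
    · exact Or.inl ((U.map_eq_bot_iff_of_injective W.subtype_injective).1 h)
    · refine Or.inr (map_injective W.subtype_injective ?_)
      rw [h, ← MonoidHom.range_eq_map, W.range_subtype]
  have hnt : ∃ h x, φ h x ≠ x := by
    by_contra! h
    refine hnc fun w hw => mem_center_iff.2 fun x => ?_
    obtain ⟨g, rfl⟩ := QuotientGroup.mk'_surjective L x
    exact mul_inv_eq_iff_eq_mul.1 (congrArg Subtype.val (h g ⟨w, hw⟩))
  have h := prod_fixed_le_half hWp φ hirr hnt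
  rw [Finset.prod_congr rfl (fun g _ => hcard g), Finset.prod_pow_eq_pow_sum, hd, ← pow_mul,
    ← pow_mul, Nat.pow_le_pow_iff_right hp.out.one_lt] at h
  linarith

/-- Along a chief series the degree part is bounded by the average loss. -/
theorem val_le_sum_loss_sharp (p : ℕ) [hp : Fact p.Prime] [Group.IsSolvable G] {χ : G → ℂ}
    (hχ : Cfsg.IsIrrCharacter G χ) (hprim : IsPrim χ) :
    ∀ (m : ℕ) (U : Subgroup G) [U.Normal] [Fintype U], Nat.card U ≤ m →
      ∀ (θ : U → ℂ) (n : ℕ), Cfsg.IsIrrCharacter U θ →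
        Cfsg.classInner (fun x : U => χ x) θ ≠ 0 → θ 1 = n →
          Fintype.card G * n.factorization p ≤ ∑ g : G, loss p U g := by
  classical
  intro m
  induction m with
  | zero => intro U _ _ h; exact absurd (Nat.card_pos (α := U)) (by omega)
  | succ m ih =>
    intro U _ _ hUm θ n hθ hc hn
    by_cases hU1 : U = ⊥
    · subst hU1
      have h1 : θ 1 = 1 := IsIrrCharacter.apply_one_eq_one hθ fun a b => Subsingleton.elim _ _
      rw [h1] at hn
      have : n = 1 := by exact_mod_cast hn.symm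
      subst this
      simp
    -- a chief factor below `U`
    obtain ⟨L, hLmax⟩ : ∃ L : Subgroup G, Maximal (fun L : Subgroup G => L.Normal ∧ L < U ∧
        ⁅U, U⁆ ≤ L) L := by
      refine Set.Finite.exists_maximal (Set.toFinite _) ⟨⁅U, U⁆, inferInstance, ?_, le_rfl⟩
      refine lt_of_le_of_ne (commutator_le_self U) fun he => hU1 ?_
      have hd : ∀ k, derivedSeries G k ≥ U := by
        intro k
        induction k with
        | zero => exact le_top
        | succ k ihk =>
          rw [derivedSeries_succ]; exact he.ge.trans (commutator_mono ihk ihk)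
      obtain ⟨k, hk⟩ := (inferInstance : Group.IsSolvable G).solvable
      exact le_bot_iff.1 (hk ▸ hd k)
    obtain ⟨hLn, hLlt, hLc⟩ := hLmax.prop
    haveI := hLn
    haveI := Fintype.ofFinite L
    have hLcard : Nat.card L < Nat.card U := by
      by_contra hle
      exact hLlt.ne (eq_of_le_of_card_ge hLlt.le (not_lt.1 hle))
    obtain ⟨φ, e, hφ, hφc, hdeg, hedvd, hesq⟩ := degree_step hχ hprim (L := L) hLlt.le hθ hc
    obtain ⟨k, hk0, hk⟩ := IsIrrCharacter.exists_degree hφ
    have hind := ih L (by omega) φ k hφ hφc hk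
    have hne : n = e * k := by
      rw [hn, hk] at hdeg
      exact_mod_cast hdeg
    have he0 : e ≠ 0 := fun h => by
      rw [h, Nat.cast_zero, zero_mul] at hdeg
      exact IsIrrCharacter.apply_one_ne_zero hθ hdeg
    have hrel0 : L.relIndex U ≠ 0 := Subgroup.index_ne_zero_of_finite
    rw [hne, Nat.factorization_mul he0 (by omega), Finsupp.add_apply]
    by_cases hpd : p ∣ L.relIndex U
    swap
    · have h0 : e.factorization p = 0 :=
        Nat.factorization_eq_zero_of_not_dvd fun h => hpd (h.trans hedvd)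
      rw [h0, zero_add]
      exact hind.trans (Finset.sum_le_sum fun g _ => loss_mono_of_coprime p hLlt.le hpd g)
    -- the factor is a `p`-group
    set W := U.map (QuotientGroup.mk' L) with hW
    haveI hWn : W.Normal := (inferInstance : U.Normal).map _ (QuotientGroup.mk'_surjective L)
    have hab : IsMulCommutative W := ⟨⟨by
      rintro ⟨_, a, ha, rfl⟩ ⟨_, b, hb, rfl⟩
      refine Subtype.ext ?_
      show QuotientGroup.mk' L a * QuotientGroup.mk' L b =
        QuotientGroup.mk' L b * QuotientGroup.mk' L a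
      rw [← map_mul, ← map_mul]
      refine QuotientGroup.eq.2 ?_
      have : b⁻¹ * a⁻¹ * b⁻¹⁻¹ * a⁻¹⁻¹ ∈ L :=
        hLc (commutator_mem_commutator (U.inv_mem hb) (U.inv_mem ha))
      simpa [mul_assoc] using this⟩⟩
    have hmin : ∀ N : Subgroup (G ⧸ L), N.Normal → N ≤ W → N = ⊥ ∨ N = W := by
      intro N hN hNW
      by_cases hcase : N.comap (QuotientGroup.mk' L) < U
      · left
        have h1 : L ≤ N.comap (QuotientGroup.mk' L) := fun x hx => by
          rw [mem_comap, QuotientGroup.mk'_apply, (QuotientGroup.eq_one_iff x).2 hx]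
          exact one_mem N
        have h2 := hLmax.eq_of_le ⟨hN.comap _, hcase, hLc.trans h1⟩ h1
        have := map_comap_eq_self_of_surjective (QuotientGroup.mk'_surjective L) N
        rw [← this, ← h2, QuotientGroup.map_mk'_self]
      · right
        have h1 : N.comap (QuotientGroup.mk' L) ≤ U := by
          intro x hx
          obtain ⟨u, hu, hux⟩ := hNW hx
          have : u⁻¹ * x ∈ L := QuotientGroup.eq.1 hux
          have := U.mul_mem hu (hLlt.le this)
          simpa using this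
        rw [hW, ← h1.eq_of_not_lt hcase,
          map_comap_eq_self_of_surjective (QuotientGroup.mk'_surjective L)]
    have hWcard : Nat.card W = L.relIndex U := by
      refine Nat.eq_of_mul_eq_mul_right (Nat.card_pos (α := L)) ?_
      have h1 := card_map_mul L U
      rw [inf_eq_right.2 hLlt.le] at h1
      rw [h1, mul_comm, ← Nat.card_congr (Subgroup.subgroupOfEquivOfLe hLlt.le).toEquiv]
      exact ((L.subgroupOf U).card_mul_index).symm
    have hWp : IsPGroup p W := by
      haveI := hab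
      obtain ⟨P⟩ : Nonempty (Sylow p W) := inferInstance
      haveI : (P : Subgroup W).Normal := inferInstance
      haveI : (P : Subgroup W).Characteristic := P.characteristic_of_normal inferInstance
      rcases hmin _ (inferInstance : ((P : Subgroup W).map W.subtype).Normal)
        (map_subtype_le _) with h | h
      · exfalso
        have hP : (P : Subgroup W) = ⊥ :=
          ((P : Subgroup W).map_eq_bot_iff_of_injective W.subtype_injective).1 h
        exact P.ne_bot_of_dvd_card (hWcard ▸ hpd) hP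
      · intro x
        have hx : (x : G ⧸ L) ∈ (P : Subgroup W).map W.subtype := h.symm ▸ x.2
        obtain ⟨y, hy, hyx⟩ := hx
        rw [← Subtype.ext hyx]
        obtain ⟨j, hj⟩ := P.2 ⟨y, hy⟩
        exact ⟨j, congrArg Subtype.val hj⟩
    obtain ⟨d, hd⟩ := IsPGroup.iff_card.1 hWp
    have hjd : 2 * e.factorization p ≤ d := by
      have h1 : (e ^ 2) ≤ p ^ d := by rw [← hd, hWcard]; exact hesq
      obtain ⟨j, -, hj⟩ := (Nat.dvd_prime_pow hp.out).1 (hd ▸ hWcard ▸ hedvd)
      rw [hj, ← pow_mul, Nat.pow_le_pow_iff_right hp.out.one_lt] at h1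
      rw [hj, Nat.Prime.factorization_pow hp.out, Finsupp.single_eq_same]
      omega
    choose f hf hstep using val_step p hLlt.le hd
    have hstep' : ∀ g, loss p L g + d ≤ loss p U g + f g := fun g => by
      have h1 := hstep g
      have h2 := loss_add p L g
      have h3 := loss_add p U g
      omega
    have hsum := Finset.sum_le_sum (s := Finset.univ) fun g _ => hstep' g
    rw [Finset.sum_add_distrib, Finset.sum_add_distrib, Finset.sum_const, Finset.card_univ,
      smul_eq_mul] at hsum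
    by_cases hnc : W ≤ center (G ⧸ L)
    · -- a central factor has prime order
      have hd1 : d ≤ 1 := by
        by_contra hd2
        obtain ⟨x, hx⟩ := exists_prime_orderOf_dvd_card' (G := W) p
          (hd ▸ dvd_pow_self p (by omega))
        haveI : ((zpowers x).map W.subtype).Normal := ⟨by
          rintro _ ⟨w, hw, rfl⟩ g
          rw [Subgroup.coe_subtype, mem_center_iff.1 (hnc w.2) g, mul_inv_cancel_right]
          exact ⟨w, hw, rfl⟩⟩
        have hc' : Nat.card ((zpowers x).map W.subtype) = p := by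
          rw [Nat.card_congr ((zpowers x).equivMapOfInjective _ W.subtype_injective).toEquiv.symm,
            Nat.card_zpowers, hx]
        rcases hmin _ ‹_› (map_subtype_le _) with h | h
        · rw [h, Subgroup.card_bot] at hc'; exact hp.out.one_lt.ne hc'
        · rw [h, hd] at hc'
          have := Nat.pow_right_injective hp.out.two_le (hc'.trans (pow_one p).symm)
          omega
      have h0 : e.factorization p = 0 := by omega
      rw [h0, zero_add]
      have hfd : ∀ g, f g ≤ d := fun g => by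
        have h1 := Subgroup.card_le_of_le
          (inf_le_left : W ⊓ centralizer ({(QuotientGroup.mk' L g)} : Set (G ⧸ L)) ≤ W)
        rw [hf g, hd] at h1
        exact (Nat.pow_le_pow_iff_right hp.out.one_lt).1 h1
      have h4 := Finset.sum_le_sum (s := Finset.univ) fun g _ => hfd g
      rw [Finset.sum_const, Finset.card_univ, smul_eq_mul] at h4
      linarith
    · have h4 := sum_fixed_exp_le_half W hab hd hmin hnc f hf
      nlinarith

/-- Some class size has large `p`-part. -/
theorem exists_class_val_sharp (p : ℕ) [hp : Fact p.Prime] [Group.IsSolvable G] {χ : G → ℂ}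
    (hχ : Cfsg.IsIrrCharacter G χ) (hprim : IsPrim χ) {n : ℕ} (hn : χ 1 = n) :
    ∃ g : G, n.factorization p ≤ ((centralizer ({g} : Set G)).index).factorization p := by
  classical
  haveI := Fintype.ofFinite (⊤ : Subgroup G)
  have hirr : Cfsg.IsIrrCharacter (⊤ : Subgroup G) (fun x : (⊤ : Subgroup G) => χ x) :=
    IsIrrCharacter.comp_surjective hχ (⊤ : Subgroup G).subtype fun x => ⟨⟨x, mem_top x⟩, rfl⟩
  have h := val_le_sum_loss_sharp p hχ hprim _ ⊤ le_rfl _ n hirr
    (by rw [IsIrrCharacter.classInner_self hirr]; exact one_ne_zero) hn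
  by_contra! hlt
  have hl : ∀ g : G, loss p ⊤ g < n.factorization p := fun g => by
    refine lt_of_le_of_lt (le_of_eq ?_) (hlt g)
    unfold loss
    rw [top_inf_eq, Subgroup.card_top, ← (centralizer ({g} : Set G)).card_mul_index,
      Nat.factorization_mul Nat.card_pos.ne' Subgroup.index_ne_zero_of_finite, Finsupp.add_apply,
      Nat.add_sub_cancel_left]
  have h2 := Finset.sum_lt_sum_of_nonempty Finset.univ_nonempty (fun g _ => hl g)
  rw [Finset.sum_const, Finset.card_univ, smul_eq_mul] at h2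
  omega

end CfsgLib.PrimClassSize
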