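import Cfsg.Agent.PrimClassSize.FixedProduct
import Cfsg.Agent.Char.CliffordCorrespondence
import Cfsg.Agent.Char.InflationInduction
import Cfsg.Agent.Char.NormalSub
import Cfsg.Agent.Char.TwoClass
import Cfsg.Agent.Char.LinearTwist
import Cfsg.Agent.Char.BlichfeldtHall
import Cfsg.Agent.Solvable.Fitting
import Mathlib.GroupTheory.Nilpotent

/-!
# Degrees of primitive characters of metanilpotent groups divide class sizes
-/

set_option autoImplicit false
set_option linter.style.haveILetI false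

namespace CfsgLib.PrimClassSize

open CfsgLib.Char Subgroup
open scoped commutatorElement

universe u

variable {G : Type u} [Group G]

/-- `χ` is not induced from a proper subgroup. -/
def IsPrim [Fintype G] (χ : G → ℂ) : Prop :=
  ∀ (H : Subgroup G) (θ : H → ℂ), Cfsg.IsCharacter H θ → Cfsg.indFun H θ = χ → H = ⊤

variable [Fintype G]

theorem inertia_eq_top {χ : G → ℂ} (hχ : Cfsg.IsIrrCharacter G χ) (hprim : IsPrim χ)
    {N : Subgroup G} [N.Normal] [Fintype N] {θ : N → ℂ} (hθ : Cfsg.IsIrrCharacter N θ)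
    (hc : Cfsg.classInner (fun n : N => χ n) θ ≠ 0) : inertia θ = ⊤ := by
  haveI := Fintype.ofFinite (inertia θ)
  obtain ⟨ψ, hψ, heq, -⟩ := exists_indFun_eq_of_inertia
    (le_inertia (IsIrrCharacter.isClassFunction hθ)) hθ rfl hχ hc
  exact hprim _ ψ (IsIrrCharacter.isCharacter hψ) heq

theorem restrict_step {χ : G → ℂ} (hχ : Cfsg.IsIrrCharacter G χ) (hprim : IsPrim χ)
    {N M : Subgroup G} [N.Normal] [M.Normal] (hNM : N ≤ M) (hr : (N.relIndex M).Prime)
    (hM : Cfsg.IsIrrCharacter M (fun x : M => χ x)) :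
    Cfsg.IsIrrCharacter N (fun x : N => χ x) := by
  classical
  haveI := Fintype.ofFinite N
  haveI := Fintype.ofFinite M
  haveI := Fintype.ofFinite (N.subgroupOf M)
  obtain ⟨θ, hθ, hc⟩ := exists_constituent_restrict (N := N) hχ
  have hI := inertia_eq_top hχ hprim hθ hc
  have hθ' := isIrrCharacter_pullBack hNM hθ
  have hI' : inertia (pullBack (T := M) θ) = ⊤ := eq_top_iff.2 fun t _ => by
    rw [mem_inertia_iff]
    intro x
    have h1 := congrFun ((mem_inertia θ (t : G)).1 (hI ▸ Subgroup.mem_top (t : G)))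
      ⟨((x : M) : G), Subgroup.mem_subgroupOf.mp x.2⟩
    simp only [conjOn_apply] at h1
    simpa [pullBack] using h1
  have hc' : Cfsg.classInner (fun x : N.subgroupOf M => χ ((x : M) : G)) (pullBack θ) ≠ 0 := by
    rwa [show (fun x : N.subgroupOf M => χ ((x : M) : G)) = pullBack (T := M) (fun n : N => χ n)
      from rfl, classInner_pullBack hNM]
  obtain ⟨k, hk, hdeg⟩ := exists_degree_ratio (χ := fun x : M => χ x) hM hθ' hc'
  have hk1 : k = 1 := by
    rcases (Nat.dvd_prime hr).1 hk with h | h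
    · exact h
    exfalso
    have hind : Cfsg.classInner (Cfsg.indFun (N.subgroupOf M) (pullBack θ)) (fun x : M => χ x) ≠ 0 :=
      (classInner_indFun_ne_zero_iff (IsIrrCharacter.isClassFunction hM) _).2 hc'
    have heq := IsCharacter.eq_of_constituent
      (IsCharacter.indFun (IsIrrCharacter.isCharacter hθ')) hM hind (by
        rw [indFun_one, hdeg, h]; rfl)
    have h1 : Cfsg.classInner (Cfsg.indFun (N.subgroupOf M) (pullBack θ))
        (Cfsg.indFun (N.subgroupOf M) (pullBack θ)) = 1 := by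
      rw [heq]; exact IsIrrCharacter.classInner_self hM
    rw [classInner_indFun_self hθ', hI', Subgroup.card_top,
      ← (N.subgroupOf M).card_mul_index] at h1
    push_cast at h1
    rw [mul_div_cancel_left₀ _ (by exact_mod_cast Nat.card_pos.ne')] at h1
    have : N.relIndex M = 1 := by exact_mod_cast h1
    exact hr.ne_one this
  have h2 := IsCharacter.eq_of_constituent
    (IsCharacter.restrict (IsIrrCharacter.isCharacter hχ) N) hθ hc (by
      rw [hk1, Nat.cast_one, one_mul] at hdeg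
      simp only [pullBack] at hdeg
      exact hdeg)
  rw [h2]; exact hθ

/-- Above a normal subgroup with nilpotent quotient, a primitive character restricts
irreducibly. -/
theorem restrict_irr {χ : G → ℂ} (hχ : Cfsg.IsIrrCharacter G χ) (hprim : IsPrim χ) :
    ∀ (n : ℕ) (N : Subgroup G) [N.Normal], N.index ≤ n → Group.IsNilpotent (G ⧸ N) →
      Cfsg.IsIrrCharacter N (fun x : N => χ x) := by
  intro n
  induction n with
  | zero =>
    intro N _ h
    exact absurd (Nat.le_zero.1 h) Subgroup.index_ne_zero_of_finite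
  | succ n ih =>
  intro N _ hidx hnil
  by_cases htop : N = ⊤
  · subst htop
    exact IsIrrCharacter.comp_surjective hχ (Subgroup.topEquiv : (⊤ : Subgroup G) ≃* G).toMonoidHom
      (Subgroup.topEquiv : (⊤ : Subgroup G) ≃* G).surjective
  haveI : Nontrivial (G ⧸ N) := QuotientGroup.nontrivial_iff.2 htop
  haveI := hnil
  haveI : Nontrivial (center (G ⧸ N)) :=
    (Subgroup.nontrivial_iff_ne_bot _).2 (Group.IsNilpotent.center_ne_bot _)
  obtain ⟨r, hr, hrdvd⟩ := Nat.exists_prime_and_dvd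
    (show Nat.card (center (G ⧸ N)) ≠ 1 from ne_of_gt Finite.one_lt_card)
  haveI := Fact.mk hr
  obtain ⟨z, hz⟩ := exists_prime_orderOf_dvd_card' r hrdvd
  obtain ⟨C, hC⟩ : ∃ C, C = zpowers (z : G ⧸ N) := ⟨_, rfl⟩
  haveI hCn : C.Normal := by
    refine ⟨fun a ha g => ?_⟩
    have hac : a ∈ center (G ⧸ N) := (zpowers_le.2 z.2) (hC ▸ ha)
    rw [mem_center_iff.1 hac g, mul_inv_cancel_right]
    exact ha
  obtain ⟨M, hM⟩ : ∃ M, M = C.comap (QuotientGroup.mk' N) := ⟨_, rfl⟩
  haveI : M.Normal := hM ▸ Subgroup.Normal.comap hCn _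
  have hNM : N ≤ M := fun x hx => by
    rw [hM, mem_comap, show QuotientGroup.mk' N x = 1 from (QuotientGroup.eq_one_iff x).2 hx]
    exact one_mem _
  have hrel : N.relIndex M = r := by
    have e := Subgroup.relIndex_ker M (f := QuotientGroup.mk' N)
    rw [QuotientGroup.ker_mk'] at e
    rw [e, hM, map_comap_eq_self_of_surjective (QuotientGroup.mk'_surjective N), hC,
      Nat.card_zpowers, Subgroup.orderOf_coe, hz]
  have hlt : M.index < N.index := by
    have h1 := Subgroup.relIndex_mul_index hNM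
    rw [hrel] at h1
    have h2 : 0 < M.index := Nat.pos_of_ne_zero Subgroup.index_ne_zero_of_finite
    have h3 := hr.two_le
    nlinarith
  have hnilM : Group.IsNilpotent (G ⧸ M) :=
    Group.nilpotent_of_surjective (QuotientGroup.map N M (MonoidHom.id G) hNM) (fun y => by
      obtain ⟨x, rfl⟩ := QuotientGroup.mk'_surjective M y
      exact ⟨x, rfl⟩)
  exact restrict_step hχ hprim hNM (hrel ▸ hr) (ih M (by omega) hnilM)

/-- Abelian normal subgroups are central. -/
theorem central_of_abelian {χ : G → ℂ} (hχ : Cfsg.IsIrrCharacter G χ) (hprim : IsPrim χ)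
    (hfaith : ∀ g, χ g = χ 1 → g = 1) {A : Subgroup G} [A.Normal]
    (hA : ∀ a ∈ A, ∀ b ∈ A, a * b = b * a) : A ≤ center G := by
  classical
  haveI := Fintype.ofFinite A
  obtain ⟨θ, hθ, hc⟩ := exists_constituent_restrict (N := A) hχ
  have hI := inertia_eq_top hχ hprim hθ hc
  have hres := restrict_eq_smul_of_invariant hχ hθ hI hc
  intro a ha
  rw [mem_center_iff]
  intro g
  have hθlin : θ 1 = 1 :=
    IsIrrCharacter.apply_one_eq_one hθ fun x y => Subtype.ext (hA x x.2 y y.2)
  obtain ⟨ν, hν⟩ := IsCharacter.exists_hom (IsIrrCharacter.isCharacter hθ) hθlin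
  have hcomm : g * a * g⁻¹ * a⁻¹ ∈ A := mul_mem (Subgroup.Normal.conj_mem ‹A.Normal› a ha g) (inv_mem ha)
  have h1 : θ ⟨g * a * g⁻¹ * a⁻¹, hcomm⟩ = 1 := by
    have h2 := (mem_inertia_iff θ g).1 (hI ▸ Subgroup.mem_top g) ⟨a, ha⟩
    rw [hν] at h2 ⊢
    simp only at h2 ⊢
    rw [show (⟨g * a * g⁻¹ * a⁻¹, hcomm⟩ : A) =
      ⟨g * a * g⁻¹, Subgroup.Normal.conj_mem ‹A.Normal› a ha g⟩ * (⟨a, ha⟩ : A)⁻¹ from rfl,
      map_mul, Units.val_mul, h2, ← Units.val_mul, ← map_mul, mul_inv_cancel, map_one,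
      Units.val_one]
  have h3 := hfaith (g * a * g⁻¹ * a⁻¹) (by
    have e1 := congrFun hres ⟨_, hcomm⟩
    have e2 := congrFun hres 1
    simp only [Pi.smul_apply, smul_eq_mul, h1, hθlin, OneMemClass.coe_one] at e1 e2
    rw [e1, e2])
  rw [mul_inv_eq_one, mul_inv_eq_iff_eq_mul] at h3
  exact h3

section Setup

variable {χ : G → ℂ} (hχ : Cfsg.IsIrrCharacter G χ) (hprim : IsPrim χ)
  (hfaith : ∀ g, χ g = χ 1 → g = 1)

include hχ hprim hfaith

/-- A normal nilpotent subgroup has commutator in the centre. -/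
theorem commutator_le_center {F : Subgroup G} [F.Normal] (hF : Group.IsNilpotent F) :
    ⁅F, F⁆ ≤ center G := by
  classical
  have hnorm : ∀ k, (F.lowerCentralSeries k).Normal := by
    intro k
    induction k with
    | zero => rw [Subgroup.lowerCentralSeries_zero]; infer_instance
    | succ k ih => rw [Subgroup.lowerCentralSeries_succ]; exact Subgroup.commutator_normal _ _
  have hex : ∃ k, F.lowerCentralSeries k ≤ center G := by
    obtain ⟨k, hk⟩ := (Subgroup.isNilpotent_iff_lowerCentralSeries F).1 hF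
    exact ⟨k, hk ▸ bot_le⟩
  have hk := Nat.find_spec hex
  rw [← show F.lowerCentralSeries 1 = ⁅F, F⁆ by rw [Subgroup.lowerCentralSeries_succ, Subgroup.lowerCentralSeries_zero]]
  rcases Nat.lt_or_ge (Nat.find hex) 2 with h | h
  · exact (F.lowerCentralSeries_antitone (by omega)).trans hk
  exfalso
  obtain ⟨j, hj⟩ : ∃ j, Nat.find hex = j + 1 := ⟨Nat.find hex - 1, by omega⟩
  rw [hj, Subgroup.lowerCentralSeries_succ] at hk
  obtain ⟨A, hA⟩ : ∃ A, A = F.lowerCentralSeries j := ⟨_, rfl⟩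
  rw [← hA] at hk
  have hz : ∀ H : Subgroup G, H ≤ center G → ∀ K : Subgroup G, ⁅H, K⁆ = ⊥ := fun H hH K =>
    commutator_eq_bot_iff_le_centralizer.2 fun x hx =>
      mem_centralizer_iff.2 fun y _ => (mem_center_iff.1 (hH hx) y)
  have h3 : ⁅⁅F, F⁆, A⁆ = ⊥ := commutator_commutator_eq_bot_of_rotate
    (by rw [Subgroup.commutator_comm F A]; exact hz _ hk _) (hz _ hk _)
  have hA1 : A ≤ ⁅F, F⁆ := by
    rw [hA, ← show F.lowerCentralSeries 1 = ⁅F, F⁆ by
      rw [Subgroup.lowerCentralSeries_succ, Subgroup.lowerCentralSeries_zero]]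
    exact F.lowerCentralSeries_antitone (by omega)
  haveI : A.Normal := hA ▸ hnorm j
  have hab : ∀ a ∈ A, ∀ b ∈ A, a * b = b * a := fun a ha b hb =>
    (mem_centralizer_iff.1 (commutator_eq_bot_iff_le_centralizer.1 h3 (hA1 ha)) b hb).symm
  exact Nat.find_min hex (show j < Nat.find hex by omega) (hA ▸ central_of_abelian hχ hprim hfaith hab)

/-- The square of the degree over the centre. -/
theorem degree_sq {F : Subgroup G} [F.Normal] (hF : Group.IsNilpotent F) (hZF : center G ≤ F)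
    (hres : Cfsg.IsIrrCharacter F (fun x : F => χ x)) {n : ℕ} (hn : χ 1 = n) :
    n ^ 2 * Nat.card (center G) = Nat.card F := by
  classical
  haveI := Fintype.ofFinite F
  haveI := Fintype.ofFinite (center G)
  obtain ⟨lam, hlam, hlc⟩ := exists_constituent_restrict (N := center G) hχ
  have hlI := inertia_eq_top hχ hprim hlam hlc
  have hlres := restrict_eq_smul_of_invariant hχ hlam hlI hlc
  have hlam1 : lam 1 = 1 := IsIrrCharacter.apply_one_eq_one hlam fun x y =>
    Subtype.ext ((mem_center_iff.1 y.2 x))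
  have hcomm := commutator_le_center hχ hprim hfaith hF
  obtain ⟨m, ρ, hρ, hρχ⟩ := hχ
  subst hρχ
  have hvan : ∀ x : F, (x : G) ∉ center G → ρ.character x = 0 := by
    intro x hx
    obtain ⟨y, hy, hxy⟩ : ∃ y ∈ F, (x : G) * y ≠ y * x := by
      by_contra! hall
      let A : Subgroup G := F ⊓ centralizer (F : Set G)
      haveI : A.Normal := inferInstanceAs (F ⊓ centralizer (F : Set G)).Normal
      have : A ≤ center G := central_of_abelian (χ := ρ.character) ⟨m, ρ, hρ, rfl⟩ hprim hfaith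
        (fun a ha b hb => (mem_centralizer_iff.1 hb.2 a ha.1))
      exact hx (this ⟨x.2, mem_centralizer_iff.2 fun z hz => (hall z hz).symm⟩)
    have hzc : (x : G)⁻¹ * (y * x * y⁻¹) ∈ center G := by
      have : ⁅(x : G)⁻¹, y⁆ ∈ center G := hcomm (commutator_mem_commutator (inv_mem x.2) hy)
      rw [commutatorElement_def, inv_inv] at this
      rwa [show (x : G)⁻¹ * (y * x * y⁻¹) = (x : G)⁻¹ * y * x * y⁻¹ by group]
    obtain ⟨w, hw⟩ : ∃ w : ℂ, ρ ((x : G)⁻¹ * (y * x * y⁻¹)) = w • 1 :=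
      ⟨_, eq_smul_one_of_commute ρ (ρ ((x : G)⁻¹ * (y * x * y⁻¹))) (fun g => by
        rw [← map_mul, ← map_mul, mem_center_iff.1 hzc g])⟩
    have hcl : ρ.character ((x : G) * ((x : G)⁻¹ * (y * x * y⁻¹))) = ρ.character x := by
      rw [show (x : G) * ((x : G)⁻¹ * (y * x * y⁻¹)) = y * x * y⁻¹ by group]
      exact IsCharacter.isClassFunction ⟨m, ρ, rfl⟩ (x : G) y
    rw [Representation.character, map_mul, hw, mul_smul_comm, mul_one, map_smul, smul_eq_mul,
      ← Representation.character] at hcl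
    rcases eq_or_ne w 1 with hw1 | hw1
    · exfalso
      apply hxy
      have h1 := hfaith ((x : G)⁻¹ * (y * x * y⁻¹)) (by
        rw [Representation.character, Representation.character, hw, hw1, one_smul, map_one ρ])
      rw [inv_mul_eq_one, eq_mul_inv_iff_mul_eq] at h1
      exact h1
    · have h2 : (w - 1) * ρ.character x = 0 := by linear_combination hcl
      exact (mul_eq_zero.1 h2).resolve_left (sub_ne_zero.2 hw1)
  have hsum := IsIrrCharacter.classInner_self hres
  rw [classInner_def, inv_mul_eq_iff_eq_mul₀ (by exact_mod_cast Nat.card_pos.ne'), mul_one] at hsum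
  have hterm : ∀ x : F, ρ.character (x : G) * (starRingEnd ℂ) (ρ.character (x : G)) =
      if (x : G) ∈ center G then (n : ℂ) ^ 2 else 0 := by
    intro x
    by_cases hx : (x : G) ∈ center G
    · rw [if_pos hx]
      obtain ⟨ν, hν⟩ := IsCharacter.exists_hom (IsIrrCharacter.isCharacter hlam) hlam1
      have h1 := congrFun hlres ⟨(x : G), hx⟩
      have h2 := congrFun hlres 1
      simp only [Pi.smul_apply, smul_eq_mul, hlam1, mul_one, OneMemClass.coe_one] at h1 h2
      rw [hn] at h2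
      rw [Complex.mul_conj', h1, norm_mul, ← h2, hν, norm_hom_eq_one, mul_one, Complex.norm_natCast]
      push_cast; ring
    · rw [if_neg hx, hvan x hx, zero_mul]
  rw [Finset.sum_congr rfl fun x _ => hterm x, ← Finset.sum_filter, Finset.sum_const,
    nsmul_eq_mul] at hsum
  have hcard : (Finset.univ.filter fun x : F => (x : G) ∈ center G).card = Nat.card (center G) := by
    rw [← Fintype.card_subtype, ← Nat.card_eq_fintype_card]
    exact Nat.card_congr
      { toFun := fun x => ⟨((x : F) : G), x.2⟩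
        invFun := fun z => ⟨⟨(z : G), hZF z.2⟩, z.2⟩
        left_inv := fun x => rfl
        right_inv := fun z => rfl }
  rw [hcard] at hsum
  have : Nat.card (center G) * n ^ 2 = Nat.card F := by exact_mod_cast hsum
  rw [← this, mul_comm]

omit hprim in
/-- The pairing bound. -/
theorem relIndex_le {P W C : Subgroup G} (hC : C = P ⊓ centralizer (W : Set G)) (hW : W ≤ P)
    (hPP : ⁅P, P⁆ ≤ center G) :
    C.relIndex P ≤ (center G).relIndex W := by
  classical
  haveI := Fintype.ofFinite (center G)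
  obtain ⟨lam, hlam, hlc⟩ := exists_constituent_restrict (N := center G) hχ
  have hlI : inertia lam = ⊤ := eq_top_iff.2 fun g _ => by
    rw [mem_inertia_iff]
    intro n
    congr 1
    ext
    show g * (n : G) * g⁻¹ = n
    rw [mem_center_iff.1 n.2 g, mul_inv_cancel_right]
  have hlres := restrict_eq_smul_of_invariant hχ hlam hlI hlc
  obtain ⟨ν, hν⟩ := IsCharacter.exists_hom (IsIrrCharacter.isCharacter hlam)
    (IsIrrCharacter.apply_one_eq_one hlam fun x y => Subtype.ext (mem_center_iff.1 y.2 x))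
  have hinj : ∀ z : center G, ν z = 1 → z = 1 := by
    intro z hz
    refine Subtype.ext (hfaith _ ?_)
    have h1 := congrFun hlres z
    have h2 := congrFun hlres 1
    simp only [Pi.smul_apply, smul_eq_mul, hν, hz, map_one, OneMemClass.coe_one] at h1 h2
    rw [h1, h2]
  have hmem : ∀ (x : P) (w : W), ⁅(x : G), (w : G)⁆ ∈ center G := fun x w =>
    hPP (commutator_mem_commutator x.2 (hW w.2))
  have hmulr : ∀ (x : G) (w w' : G), ⁅x, w'⁆ ∈ center G → ⁅x, w * w'⁆ = ⁅x, w⁆ * ⁅x, w'⁆ := by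
    intro x w w' h
    calc ⁅x, w * w'⁆ = ⁅x, w⁆ * (w * ⁅x, w'⁆ * w⁻¹) := by
          simp only [commutatorElement_def]; group
      _ = ⁅x, w⁆ * ⁅x, w'⁆ := by rw [mem_center_iff.1 h w, mul_inv_cancel_right]
  let g : P → (W →* ℂˣ) := fun x =>
    { toFun := fun w => ν ⟨⁅(x : G), (w : G)⁆, hmem x w⟩
      map_one' := by
        rw [show (⟨⁅(x : G), ((1 : W) : G)⁆, hmem x 1⟩ : center G) = 1 from
          Subtype.ext (commutatorElement_one_right _), map_one]
      map_mul' := fun w w' => by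
        rw [← map_mul]
        congr 1
        exact Subtype.ext (hmulr x w w' (hmem x w')) }
  have hker : ∀ (x : P) (w : W), w ∈ (center G).subgroupOf W → g x w = 1 := by
    intro x w hw
    show ν ⟨⁅(x : G), (w : G)⁆, hmem x w⟩ = 1
    rw [show (⟨⁅(x : G), (w : G)⁆, hmem x w⟩ : center G) = 1 from Subtype.ext
      (commutatorElement_eq_one_iff_commute.2 (mem_center_iff.1 (mem_subgroupOf.1 hw) (x : G))),
      map_one]
  let f : P ⧸ C.subgroupOf P → {l : W →* ℂˣ // ∀ w ∈ (center G).subgroupOf W, l w = 1} :=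
    fun q => ⟨g q.out, hker _⟩
  haveI : Finite {l : W →* ℂˣ // ∀ w ∈ (center G).subgroupOf W, l w = 1} := by
    haveI : Finite (W →* ℂˣ) := Nat.finite_of_card_ne_zero (by
      rw [card_hom_eq_index_commutator]; exact Subgroup.index_ne_zero_of_finite)
    infer_instance
  have hf : Function.Injective f := by
    intro a b hab
    rw [← QuotientGroup.out_eq' a, ← QuotientGroup.out_eq' b, QuotientGroup.eq, mem_subgroupOf]
    suffices hmemC : (((a.out)⁻¹ * b.out : P) : G) ∈ P ⊓ centralizer (W : Set G) by rwa [← hC] at hmemC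
    refine ⟨((a.out)⁻¹ * b.out : P).2, mem_centralizer_iff.2 fun w hw => ?_⟩
    have h1 : g a.out ⟨w, hw⟩ = g b.out ⟨w, hw⟩ :=
      congrArg (fun l : {l : W →* ℂˣ // ∀ w ∈ (center G).subgroupOf W, l w = 1} => l.1 ⟨w, hw⟩) hab
    change ν ⟨_, hmem a.out ⟨w, hw⟩⟩ = ν ⟨_, hmem b.out ⟨w, hw⟩⟩ at h1
    have h2 := hinj (⟨_, hmem a.out ⟨w, hw⟩⟩ * (⟨_, hmem b.out ⟨w, hw⟩⟩ : center G)⁻¹)
      (by rw [map_mul, map_inv, h1, mul_inv_cancel])
    rw [mul_inv_eq_one, Subtype.mk.injEq] at h2
    simp only [commutatorElement_def] at h2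
    have h3 : (a.out : G) * w * (a.out : G)⁻¹ = (b.out : G) * w * (b.out : G)⁻¹ :=
      mul_right_cancel h2
    show w * (((a.out)⁻¹ * b.out : P) : G) = (((a.out)⁻¹ * b.out : P) : G) * w
    simp only [Subgroup.coe_mul, Subgroup.coe_inv]
    calc w * ((a.out : G)⁻¹ * b.out) = (a.out : G)⁻¹ * ((a.out : G) * w * (a.out : G)⁻¹) * b.out := by
          group
      _ = (a.out : G)⁻¹ * b.out * w := by rw [h3]; group
  calc C.relIndex P = Nat.card (P ⧸ C.subgroupOf P) := rfl
    _ ≤ _ := Nat.card_le_card_of_injective f hf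
    _ ≤ _ := card_hom_trivial_le _

end Setup

/-- The index of `H ⊓ P` in a normal subgroup `P` divides the index of `H`. -/
theorem relIndex_dvd_index_right (H P : Subgroup G) [P.Normal] : H.relIndex P ∣ H.index := by
  have h1 := Subgroup.relIndex_mul_index (inf_le_right : H ⊓ P ≤ P)
  have h2 := Subgroup.relIndex_mul_index (inf_le_left : H ⊓ P ≤ H)
  rw [Subgroup.inf_relIndex_right] at h1
  rw [Subgroup.inf_relIndex_left] at h2
  obtain ⟨k, hk⟩ := Subgroup.relIndex_dvd_index_of_normal P H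
  rw [← h2, hk] at h1
  have hpos : 0 < P.relIndex H := Nat.pos_of_ne_zero Subgroup.index_ne_zero_of_finite
  refine ⟨k, Nat.eq_of_mul_eq_mul_left hpos ?_⟩
  rw [← h1]; ring

section Two

variable {χ : G → ℂ} (hχ : Cfsg.IsIrrCharacter G χ) (hprim : IsPrim χ)
  (hfaith : ∀ g, χ g = χ 1 → g = 1) {p q : ℕ} [hp : Fact p.Prime] [hq : Fact q.Prime]

/-- Commutation with `g` lands in the centre. -/
def ActsTriv (g : G) (P : Subgroup G) : Prop := ∀ x ∈ P, g * x * g⁻¹ * x⁻¹ ∈ center G

/-- The elements of `P` centralised modulo the centre by `K`. -/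
def fixMod (P K : Subgroup G) [K.Normal] [P.Normal] : Subgroup G where
  carrier := {x | x ∈ P ∧ ∀ a ∈ K, a * x * a⁻¹ * x⁻¹ ∈ center G}
  one_mem' := ⟨one_mem _, fun a _ => by simp⟩
  mul_mem' {x y} hx hy := ⟨mul_mem hx.1 hy.1, fun a ha => by
    have h1 := hy.2 a ha
    rw [show a * (x * y) * a⁻¹ * (x * y)⁻¹ =
      (a * x * a⁻¹) * (a * y * a⁻¹ * y⁻¹) * x⁻¹ by group, mem_center_iff.1 h1, mul_assoc]
    exact mul_mem h1 (hx.2 a ha)⟩
  inv_mem' {x} hx := ⟨inv_mem hx.1, fun a ha => by
    have h1 := hx.2 a ha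
    rw [show a * x⁻¹ * a⁻¹ * x⁻¹⁻¹ = x⁻¹ * (a * x * a⁻¹ * x⁻¹)⁻¹ * x by group,
      mem_center_iff.1 (inv_mem h1), inv_mul_cancel_right]
    exact inv_mem h1⟩

omit [Fintype G] hp hq in
theorem fixMod_normal (P K : Subgroup G) [P.Normal] [K.Normal] : (fixMod P K).Normal := by
  refine ⟨fun x hx g => ⟨Subgroup.Normal.conj_mem ‹P.Normal› x hx.1 g, fun a ha => ?_⟩⟩
  have h1 := hx.2 (g⁻¹ * a * g) (by
    have := Subgroup.Normal.conj_mem ‹K.Normal› a ha g⁻¹
    rwa [inv_inv] at this)
  have h2 := Subgroup.Normal.conj_mem (inferInstance : (center G).Normal) _ h1 g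
  rwa [show g * (g⁻¹ * a * g * x * (g⁻¹ * a * g)⁻¹ * x⁻¹) * g⁻¹ =
    a * (g * x * g⁻¹) * a⁻¹ * (g * x * g⁻¹)⁻¹ by group] at h2

/-- The hypotheses used for one prime. -/
structure OnePrime (P S : Subgroup G) (K L : Subgroup G) : Prop where
  pgroup : IsPGroup p P
  sgroup : IsPGroup p S
  Kn : K.Normal
  Ln : L.Normal
  Pn : P.Normal
  commP : ⁅P, P⁆ ≤ center G
  hKL : K ⊔ L = ⊤
  hSL : S ≤ L
  gen : ∀ g ∈ L, ∃ s ∈ S, ∃ f : G, ActsTriv f P ∧ g = s * f

omit [Fintype G] hp hq in
theorem conj_mul_mem {g h x : G} (h1 : g * x * g⁻¹ * x⁻¹ ∈ center G)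
    (h2 : h * x * h⁻¹ * x⁻¹ ∈ center G) : g * h * x * (g * h)⁻¹ * x⁻¹ ∈ center G := by
  rw [show g * h * x * (g * h)⁻¹ * x⁻¹ =
    g * (h * x * h⁻¹ * x⁻¹) * (x * g⁻¹ * x⁻¹) by group, mem_center_iff.1 h2 g, mul_assoc]
  refine mul_mem h2 ?_
  rwa [show g * (x * g⁻¹ * x⁻¹) = g * x * g⁻¹ * x⁻¹ by group]

include hp in
/-- A nontrivial invariant section of `P` over the centre has a nontrivial point fixed by `S`. -/
theorem exists_fixed_mod {P S : Subgroup G} (hP : IsPGroup p P) (hS : IsPGroup p S)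
    {W : Subgroup G} (hWn : W.Normal) (hWP : W ≤ P) (hne : ¬ W ≤ center G) :
    ∃ x ∈ W, x ∉ center G ∧ ∀ s ∈ S, s * x * s⁻¹ * x⁻¹ ∈ center G := by
  classical
  obtain ⟨V, hV⟩ : ∃ V, V = W.map (QuotientGroup.mk' (center G)) := ⟨_, rfl⟩
  haveI hVn : V.Normal := hV ▸ hWn.map _ (QuotientGroup.mk'_surjective _)
  have hVne : Nat.card V ≠ 1 := by
    intro h
    apply hne
    have hb : V = ⊥ := Subgroup.eq_bot_of_card_eq _ h
    rw [hV, Subgroup.map_eq_bot_iff, QuotientGroup.ker_mk'] at hb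
    exact hb
  have hVp : p ∣ Nat.card V := by
    have : IsPGroup p V := hV ▸ (hP.to_le hWP).map _
    exact this.card_eq_or_dvd.resolve_left hVne
  letI : MulAction S V :=
    { smul := fun s v => ⟨QuotientGroup.mk' (center G) (s : G) * v *
          (QuotientGroup.mk' (center G) (s : G))⁻¹, hVn.conj_mem _ v.2 _⟩
      one_smul := fun v => Subtype.ext (by
        show QuotientGroup.mk' (center G) ((1 : S) : G) * v * _ = v
        simp)
      mul_smul := fun s t v => Subtype.ext (by
        show QuotientGroup.mk' (center G) ((s * t : S) : G) * v *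
            (QuotientGroup.mk' (center G) ((s * t : S) : G))⁻¹ =
          QuotientGroup.mk' (center G) (s : G) * (QuotientGroup.mk' (center G) (t : G) * v *
            (QuotientGroup.mk' (center G) (t : G))⁻¹) * (QuotientGroup.mk' (center G) (s : G))⁻¹
        rw [Subgroup.coe_mul, map_mul]
        group) }
  obtain ⟨v, hv, hv1⟩ := hS.exists_fixed_point_of_prime_dvd_card_of_fixed_point V hVp (a := 1)
    (fun s => Subtype.ext (by
      show QuotientGroup.mk' (center G) (s : G) * 1 * _ = 1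
      simp))
  obtain ⟨v, hvV⟩ := v
  obtain ⟨x, hx, rfl⟩ : v ∈ W.map (QuotientGroup.mk' (center G)) := hV ▸ hvV
  refine ⟨x, hx, fun hxc => hv1 (Subtype.ext ((QuotientGroup.eq_one_iff x).2 hxc).symm), fun s hs => ?_⟩
  have h1 : QuotientGroup.mk' (center G) s * QuotientGroup.mk' (center G) x *
      (QuotientGroup.mk' (center G) s)⁻¹ = QuotientGroup.mk' (center G) x :=
    congrArg Subtype.val (hv ⟨s, hs⟩)
  rw [← QuotientGroup.eq_one_iff]
  show QuotientGroup.mk' (center G) (s * x * s⁻¹ * x⁻¹) = 1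
  rw [map_mul, map_mul, map_mul, map_inv, map_inv, h1, mul_inv_cancel]

include hχ hprim hfaith hp

/-- Nothing outside the centre is centralised modulo the centre by `K`. -/
theorem fixMod_le {P S K L : Subgroup G} (h : OnePrime (p := p) P S K L) :
    ∀ x ∈ P, (∀ a ∈ K, a * x * a⁻¹ * x⁻¹ ∈ center G) → x ∈ center G := by
  classical
  haveI := h.Kn
  haveI := h.Pn
  haveI := fixMod_normal P K
  intro x hxP hxK
  by_contra hx
  obtain ⟨w, hw, hwc, hwS⟩ := exists_fixed_mod h.pgroup h.sgroup (W := fixMod P K)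
    inferInstance (fun y hy => hy.1) (fun hle => hx (hle ⟨hxP, hxK⟩))
  have hall : ∀ g : G, g * w * g⁻¹ * w⁻¹ ∈ center G := by
    intro g
    haveI := h.Ln
    have hg : g ∈ K ⊔ L := h.hKL ▸ Subgroup.mem_top g
    obtain ⟨a, ha, l, hl, rfl⟩ := Subgroup.mem_sup_of_normal_left.1 hg
    obtain ⟨s, hs, f, hf, rfl⟩ := h.gen l hl
    exact conj_mul_mem (hw.2 a ha) (conj_mul_mem (hwS s hs) (hf w hw.1))
  apply hwc
  obtain ⟨A, hA⟩ : ∃ A, A = zpowers w ⊔ center G := ⟨_, rfl⟩
  haveI : A.Normal := ⟨fun a ha g => by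
    rw [hA] at ha ⊢
    obtain ⟨u, hu, z, hz, rfl⟩ := Subgroup.mem_sup_of_normal_right.1 ha
    obtain ⟨k, rfl⟩ := mem_zpowers_iff.1 hu
    rw [show g * (w ^ k * z) * g⁻¹ = (g * w * g⁻¹) ^ k * (g * z * g⁻¹) by rw [conj_zpow]; group]
    refine mul_mem (zpow_mem ?_ k) (mem_sup_right (Subgroup.Normal.conj_mem inferInstance z hz g))
    rw [show g * w * g⁻¹ = g * w * g⁻¹ * w⁻¹ * w by group]
    exact mul_mem (mem_sup_right (hall g)) (mem_sup_left (mem_zpowers w))⟩
  refine central_of_abelian hχ hprim hfaith (A := A) ?_ (hA ▸ mem_sup_left (mem_zpowers w))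
  intro a ha b hb
  rw [hA] at ha hb
  obtain ⟨u, hu, z, hz, rfl⟩ := Subgroup.mem_sup_of_normal_right.1 ha
  obtain ⟨v, hv, y, hy, rfl⟩ := Subgroup.mem_sup_of_normal_right.1 hb
  obtain ⟨i, rfl⟩ := mem_zpowers_iff.1 hu
  obtain ⟨j, rfl⟩ := mem_zpowers_iff.1 hv
  have hz' : ∀ g, Commute g z := mem_center_iff.1 hz
  have hy' : ∀ g, Commute g y := mem_center_iff.1 hy
  exact ((Commute.zpow_zpow_self w i j).mul_right (hy' _)).mul_left
    ((hz' _).symm.mul_right (hy' _))

/-- The `p`-part acts trivially on `P` modulo the centre. -/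
theorem actsTriv_of_mem {P S K L : Subgroup G} (h : OnePrime (p := p) P S K L)
    {s : G} (hs : s ∈ L) : ActsTriv s P := by
  classical
  haveI := h.Ln
  haveI := h.Pn
  obtain ⟨W, hW⟩ : ∃ W, W = fixMod P L := ⟨_, rfl⟩
  haveI hWn : W.Normal := hW ▸ fixMod_normal P L
  obtain ⟨C, hC⟩ : ∃ C, C = P ⊓ centralizer (W : Set G) := ⟨_, rfl⟩
  haveI hCn : C.Normal := hC ▸ inferInstanceAs (P ⊓ centralizer (W : Set G)).Normal
  have hCZ : C ≤ center G := by
    by_contra hne
    obtain ⟨w, hw, hwc, hwS⟩ := exists_fixed_mod h.pgroup h.sgroup (W := C) hCn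
      (by rw [hC]; exact inf_le_left) hne
    have hwP : w ∈ P := (hC ▸ hw : w ∈ P ⊓ centralizer (W : Set G)).1
    have hwW : w ∈ W := by
      rw [hW]
      refine ⟨hwP, fun a ha => ?_⟩
      obtain ⟨t, ht, f, hf, rfl⟩ := h.gen a ha
      exact conj_mul_mem (hwS t ht) (hf w hwP)
    haveI : (W ⊓ C).Normal := inferInstance
    exact hwc (central_of_abelian hχ hprim hfaith (A := W ⊓ C) (fun a ha b hb =>
      mem_centralizer_iff.1 (hC ▸ hb.2 : b ∈ P ⊓ centralizer (W : Set G)).2 a ha.1) ⟨hwW, hw⟩)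
  have hWP : W ≤ P := fun x hx => (hW ▸ hx : x ∈ fixMod P L).1
  have hle := relIndex_le hχ hfaith hC hWP h.commP
  have hPW : P ≤ W := by
    have h1 : (center G).relIndex P ≤ (center G).relIndex W :=
      le_trans (Nat.le_of_dvd (Nat.pos_of_ne_zero Subgroup.index_ne_zero_of_finite)
        (Subgroup.relIndex_dvd_of_le_left P hCZ)) hle
    obtain ⟨W', hW'⟩ : ∃ W', W' = W ⊔ (center G ⊓ P) := ⟨_, rfl⟩
    have hcW : center G ⊓ P ≤ W := fun x hx => by
      rw [hW]
      exact ⟨hx.2, fun a _ => by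
        rw [mem_center_iff.1 hx.1 a, mul_inv_cancel_right, mul_inv_cancel]; exact one_mem _⟩
    have e1 : (center G).relIndex W * W.relIndex P = (center G).relIndex P := by
      have e := Subgroup.relIndex_inf_mul_relIndex (center G) W P
      rwa [inf_eq_left.2 hWP, ← inf_relIndex_right (center G ⊓ W) P, inf_assoc,
        inf_eq_left.2 hWP, show center G ⊓ W = center G ⊓ P from
          le_antisymm (inf_le_inf_left _ hWP) (le_inf inf_le_left hcW), inf_relIndex_right] at e
    have hpos : 0 < (center G).relIndex W := Nat.pos_of_ne_zero Subgroup.index_ne_zero_of_finite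
    have h2 : W.relIndex P = 1 := by
      have hpos2 : 0 < W.relIndex P := Nat.pos_of_ne_zero Subgroup.index_ne_zero_of_finite
      nlinarith
    exact Subgroup.relIndex_eq_one.1 h2
  intro x hx
  exact (hW ▸ hPW hx : x ∈ fixMod P L).2 s hs

omit hp hq in
/-- An element of the complementary part moving at least half of `P` modulo the centre. -/
theorem exists_big_class [Fact p.Prime] [Fact q.Prime] (hpq : p ≠ q) {P S K L Q : Subgroup G}
    (h : OnePrime (p := p) P S K L) (hQ : IsPGroup q Q) (hQK : Q ≤ K)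
    (hgenK : ∀ g ∈ K, ∃ s ∈ Q, ∃ f : G, ActsTriv f P ∧ g = s * f) :
    ∃ a ∈ Q, ∀ g : G, (∃ b c : G, ActsTriv b P ∧ ActsTriv c P ∧ g = b * a * c) →
      ((center G).relIndex P).factorization p ≤
        2 * (centralizer ({g} : Set G)).index.factorization p := by
  classical
  haveI := h.Pn
  obtain ⟨Z', hZ'⟩ : ∃ Z', Z' = (center G).subgroupOf P := ⟨_, rfl⟩
  haveI hZn : Z'.Normal := hZ' ▸ inferInstance
  haveI hcomm : IsMulCommutative (P ⧸ Z') := ⟨⟨fun a b => by
    induction a using QuotientGroup.induction_on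
    induction b using QuotientGroup.induction_on
    rename_i x y
    rw [← QuotientGroup.mk_mul, ← QuotientGroup.mk_mul, QuotientGroup.eq, hZ', mem_subgroupOf]
    have h1 : ⁅((y : P) : G)⁻¹, ((x : P) : G)⁻¹⁆ ∈ center G :=
      h.commP (commutator_mem_commutator (inv_mem y.2) (inv_mem x.2))
    rw [commutatorElement_def] at h1
    simpa [mul_assoc] using h1⟩⟩
  letI : CommGroup (P ⧸ Z') := { (inferInstance : Group (P ⧸ Z')) with mul_comm := mul_comm' }
  have hmap : ∀ g : G, Z'.map (MulAut.conjNormal g : MulAut P).toMonoidHom = Z' := by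
    intro g
    ext x
    rw [hZ', mem_map, mem_subgroupOf]
    constructor
    · rintro ⟨y, hy, rfl⟩
      exact Subgroup.Normal.conj_mem (inferInstance : (center G).Normal) _ (mem_subgroupOf.1 hy) g
    · intro hx
      refine ⟨(MulAut.conjNormal g⁻¹ : MulAut P) x, ?_, ?_⟩
      · exact Subgroup.Normal.conj_mem (inferInstance : (center G).Normal) _ hx g⁻¹
      · simp
  let φ : Q →* MulAut (P ⧸ Z') :=
    { toFun := fun a => QuotientGroup.congr Z' Z' (MulAut.conjNormal (a : G)) (hmap a)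
      map_one' := by
        ext v
        induction v using QuotientGroup.induction_on with
        | _ x => simp
      map_mul' := fun a b => by
        ext v
        induction v using QuotientGroup.induction_on with
        | _ x =>
          show ((MulAut.conjNormal ((a * b : Q) : G) x : P) : P ⧸ Z') =
            ((MulAut.conjNormal (a : G) (MulAut.conjNormal (b : G) x) : P) : P ⧸ Z')
          rw [Subgroup.coe_mul, map_mul]
          rfl }
  have hφ : ∀ (a : Q) (x : P), φ a (x : P ⧸ Z') = (x : P ⧸ Z') ↔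
      (a : G) * x * (a : G)⁻¹ * (x : G)⁻¹ ∈ center G := by
    intro a x
    show ((MulAut.conjNormal (a : G) x : P) : P ⧸ Z') = _ ↔ _
    rw [← div_eq_one, ← QuotientGroup.mk_div, QuotientGroup.eq_one_iff,
      hZ', mem_subgroupOf]
    simp [div_eq_mul_inv]
  obtain ⟨j, hj⟩ := IsPGroup.iff_card.1 (h.pgroup.to_quotient Z')
  have hqV : ¬ q ∣ Nat.card (P ⧸ Z') := by
    rw [hj]
    intro hd
    exact hpq.symm ((Nat.prime_dvd_prime_iff_eq Fact.out Fact.out).1
      ((Fact.out : q.Prime).dvd_of_dvd_pow hd))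
  obtain ⟨a, ha⟩ := exists_small_fixed hQ hqV φ (fun v hv => by
    induction v using QuotientGroup.induction_on with
    | _ x =>
      rw [QuotientGroup.eq_one_iff, hZ', mem_subgroupOf]
      refine fixMod_le hχ hprim hfaith h x x.2 fun k hk => ?_
      obtain ⟨s, hs, f, hf, rfl⟩ := hgenK k hk
      exact conj_mul_mem ((hφ ⟨s, hs⟩ x).1 (hv ⟨s, hs⟩)) (hf x x.2))
  refine ⟨a, a.2, ?_⟩
  rintro g ⟨b, c, hb, hc, rfl⟩
  obtain ⟨D, hD⟩ : ∃ D : Subgroup P, D = (centralizer ({b * (a : G) * c} : Set G)).subgroupOf P :=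
    ⟨_, rfl⟩
  have hDle : D.map (QuotientGroup.mk' Z') ≤ fixedOf φ a := by
    rintro _ ⟨x, hx, rfl⟩
    rw [hD] at hx
    have hxg := mem_centralizer_singleton_iff.1 (mem_subgroupOf.1 hx)
    rw [mem_fixedOf]
    refine (hφ a x).2 ?_
    have e1 : b * (a : G) * c * x * (b * (a : G) * c)⁻¹ * (x : G)⁻¹ ∈ center G := by
      rw [← hxg, mul_inv_cancel_right, mul_inv_cancel]; exact one_mem _
    have hb' : ActsTriv b⁻¹ P := fun y hy => by
      have h2 := hb y hy
      rw [show b⁻¹ * y * b⁻¹⁻¹ * y⁻¹ = b⁻¹ * (b * y * b⁻¹ * y⁻¹)⁻¹ * b by group,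
        mem_center_iff.1 (inv_mem h2), inv_mul_cancel_right]
      exact inv_mem h2
    have hc' : ActsTriv c⁻¹ P := fun y hy => by
      have h2 := hc y hy
      rw [show c⁻¹ * y * c⁻¹⁻¹ * y⁻¹ = c⁻¹ * (c * y * c⁻¹ * y⁻¹)⁻¹ * c by group,
        mem_center_iff.1 (inv_mem h2), inv_mul_cancel_right]
      exact inv_mem h2
    have e2 := conj_mul_mem (conj_mul_mem (hb' (x : G) x.2) e1) (hc' (x : G) x.2)
    rwa [show b⁻¹ * (b * (a : G) * c) * c⁻¹ = (a : G) by group] at e2
  have hidx : Nat.card (P ⧸ Z') ≤ Nat.card (P ⧸ D) ^ 2 := by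
    have h1 : (D.map (QuotientGroup.mk' Z')).index ∣ D.index :=
      Subgroup.index_map_dvd D (QuotientGroup.mk'_surjective Z')
    have h2 : (fixedOf φ a).index ≤ D.index := Nat.le_of_dvd
      (Nat.pos_of_ne_zero Subgroup.index_ne_zero_of_finite)
      ((Subgroup.index_dvd_of_le hDle).trans h1)
    have h3 := (fixedOf φ a).card_mul_index
    have h4 : 0 < Nat.card (fixedOf φ a) := Nat.card_pos
    have h5 : Nat.card (fixedOf φ a) ≤ (fixedOf φ a).index := by
      rw [← h3, sq] at ha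
      exact Nat.le_of_mul_le_mul_left ha h4
    rw [← h3, sq]
    exact Nat.mul_le_mul (h5.trans h2) h2
  have hdvd : Nat.card (P ⧸ D) ∣ (centralizer ({b * (a : G) * c} : Set G)).index := by
    rw [show Nat.card (P ⧸ D) = D.index from rfl, hD]
    exact relIndex_dvd_index_right _ _
  obtain ⟨i, hi⟩ := IsPGroup.iff_card.1 h.pgroup
  obtain ⟨l, -, hl⟩ := (Nat.dvd_prime_pow (Fact.out : p.Prime)).1
    (show Nat.card (P ⧸ D) ∣ p ^ i from hi ▸ Subgroup.card_quotient_dvd_card D)
  rw [hj, hl, ← pow_mul] at hidx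
  have hjl : j ≤ l * 2 := (Nat.pow_le_pow_iff_right (Fact.out : p.Prime).one_lt).1 hidx
  have hl2 : l ≤ (centralizer ({b * (a : G) * c} : Set G)).index.factorization p :=
    ((Fact.out : p.Prime).pow_dvd_iff_le_factorization Subgroup.index_ne_zero_of_finite).1
      (hl ▸ hdvd)
  have hrel : ((center G).relIndex P).factorization p = j := by
    rw [show (center G).relIndex P = Nat.card (P ⧸ Z') by rw [hZ']; rfl, hj,
      Nat.Prime.factorization_pow (Fact.out : p.Prime), Finsupp.single_eq_same]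
  omega

end Two

/-- The preimage of a Sylow subgroup of the nilpotent quotient. -/
theorem exists_sylow_data (F : Subgroup G) [F.Normal] (hnil : Group.IsNilpotent (G ⧸ F)) (p : ℕ)
    [Fact p.Prime] :
    ∃ S L : Subgroup G, IsPGroup p S ∧ L.Normal ∧ S ≤ L ∧ ¬ p ∣ L.index ∧
      ∀ g ∈ L, ∃ s ∈ S, ∃ f ∈ F, g = s * f := by
  obtain ⟨S⟩ := (inferInstance : Nonempty (Sylow p G))
  obtain ⟨Sb, hSb⟩ : ∃ Sb, Sb = S.mapSurjective (QuotientGroup.mk'_surjective F) := ⟨_, rfl⟩
  haveI := hnil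
  haveI : (Sb : Subgroup (G ⧸ F)).Normal := inferInstance
  have hcoe : (Sb : Subgroup (G ⧸ F)) = (S : Subgroup G).map (QuotientGroup.mk' F) := by
    rw [hSb]; rfl
  refine ⟨S, (Sb : Subgroup (G ⧸ F)).comap (QuotientGroup.mk' F), S.2,
    Subgroup.Normal.comap inferInstance _, ?_, ?_, fun g hg => ?_⟩
  · rw [hcoe]; exact le_comap_map _ _
  · rw [index_comap_of_surjective _ (QuotientGroup.mk'_surjective F)]
    exact Sb.not_dvd_index
  · rw [mem_comap, hcoe] at hg
    obtain ⟨s, hs, hse⟩ := hg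
    exact ⟨s, hs, s⁻¹ * g, QuotientGroup.eq.1 hse, by group⟩

/-- The faithful case. -/
theorem exists_class_faithful [Group.IsSolvable G] {χ : G → ℂ} (hχ : Cfsg.IsIrrCharacter G χ)
    (hprim : IsPrim χ) (hfaith : ∀ g, χ g = χ 1 → g = 1)
    (hnil : Group.IsNilpotent (G ⧸ Cfsg.fittingSubgroup G)) {p q : ℕ} [Fact p.Prime]
    [Fact q.Prime] (hpq : p ≠ q) (hpr : ∀ r : ℕ, r.Prime → r ∣ Nat.card G → r = p ∨ r = q)
    {n : ℕ} (hn : χ 1 = n) : ∃ g : G, n ∣ (centralizer ({g} : Set G)).index := by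
  classical
  obtain ⟨F, hFdef⟩ : ∃ F, F = Cfsg.fittingSubgroup G := ⟨_, rfl⟩
  haveI hFn : F.Normal := hFdef ▸ CfsgLib.Solvable.fittingSubgroup_normal
  have hFnil : Group.IsNilpotent F := hFdef ▸ CfsgLib.Solvable.isNilpotent_fittingSubgroup
  have hnil' : Group.IsNilpotent (G ⧸ F) := by subst hFdef; exact hnil
  have hres := restrict_irr hχ hprim F.index F le_rfl hnil'
  haveI : Group.IsNilpotent (center G) := Subgroup.isNilpotent_of_ker_le_center
    (1 : center G →* PUnit.{1})
    (by rw [MonoidHom.ker_one]; exact fun z _ => mem_center_iff.2 fun c =>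
      Subtype.ext (mem_center_iff.1 z.2 c))
  have hZF : center G ≤ F := hFdef ▸ CfsgLib.Solvable.le_fittingSubgroup inferInstance inferInstance
  have hdeg := degree_sq hχ hprim hfaith hFnil hZF hres hn
  have hcommF := commutator_le_center hχ hprim hfaith hFnil
  obtain ⟨S, L, hS, hLn, hSL, hLidx, hgenL⟩ := exists_sylow_data F hnil' p
  obtain ⟨Q, K, hQ, hKn, hQK, hKidx, hgenK⟩ := exists_sylow_data F hnil' q
  obtain ⟨P, hP⟩ : ∃ P, P = Cfsg.pCore p G := ⟨_, rfl⟩
  obtain ⟨R, hR⟩ : ∃ R, R = Cfsg.pCore q G := ⟨_, rfl⟩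
  have hPF : P ≤ F := hP ▸ hFdef ▸ CfsgLib.Solvable.pCore_le_fittingSubgroup _
  have hRF : R ≤ F := hR ▸ hFdef ▸ CfsgLib.Solvable.pCore_le_fittingSubgroup _
  have htriv : ∀ A : Subgroup G, A ≤ F → ∀ f ∈ F, ActsTriv f A := fun A hA f hf x hx =>
    hcommF (commutator_mem_commutator hf (hA hx))
  have htop : K ⊔ L = ⊤ := by
    apply Subgroup.index_eq_one.1
    by_contra hne
    obtain ⟨r, hr, hrd⟩ := Nat.exists_prime_and_dvd hne
    rcases hpr r hr (hrd.trans (Subgroup.index_dvd_card _)) with rfl | rfl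
    · exact hLidx (hrd.trans (Subgroup.index_dvd_of_le le_sup_right))
    · exact hKidx (hrd.trans (Subgroup.index_dvd_of_le le_sup_left))
  have h1 : OnePrime (p := p) P S K L :=
    { pgroup := hP ▸ CfsgLib.Solvable.isPGroup_pCore p
      sgroup := hS
      Kn := hKn
      Ln := hLn
      Pn := hP ▸ (CfsgLib.Solvable.pCore_spec (G := G) (p := p)).1
      commP := (Subgroup.commutator_mono hPF hPF).trans hcommF
      hKL := htop
      hSL := hSL
      gen := fun g hg => by
        obtain ⟨s, hs, f, hf, he⟩ := hgenL g hg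
        exact ⟨s, hs, f, htriv P hPF f hf, he⟩ }
  have h2 : OnePrime (p := q) R Q L K :=
    { pgroup := hR ▸ CfsgLib.Solvable.isPGroup_pCore q
      sgroup := hQ
      Kn := hLn
      Ln := hKn
      Pn := hR ▸ (CfsgLib.Solvable.pCore_spec (G := G) (p := q)).1
      commP := (Subgroup.commutator_mono hRF hRF).trans hcommF
      hKL := by rw [sup_comm]; exact htop
      hSL := hQK
      gen := fun g hg => by
        obtain ⟨s, hs, f, hf, he⟩ := hgenK g hg
        exact ⟨s, hs, f, htriv R hRF f hf, he⟩ }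
  obtain ⟨a, haQ, ha⟩ := exists_big_class (q := q) hχ hprim hfaith hpq h1 hQ hQK (fun g hg => by
    obtain ⟨s, hs, f, hf, he⟩ := hgenK g hg
    exact ⟨s, hs, f, htriv P hPF f hf, he⟩)
  obtain ⟨b, hbS, hb⟩ := exists_big_class (q := p) hχ hprim hfaith hpq.symm h2 hS hSL (fun g hg => by
    obtain ⟨s, hs, f, hf, he⟩ := hgenL g hg
    exact ⟨s, hs, f, htriv R hRF f hf, he⟩)
  have hone : ∀ A : Subgroup G, ActsTriv 1 A := fun A x _ => by simp
  have hp' := ha (a * b) ⟨1, b, hone P, actsTriv_of_mem hχ hprim hfaith h1 (hSL hbS), by rw [one_mul]⟩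
  have hq' := hb (a * b) ⟨a, 1, actsTriv_of_mem hχ hprim hfaith h2 (hQK haQ), hone R, by rw [mul_one]⟩
  refine ⟨a * b, ?_⟩
  obtain ⟨d, hd0, hd⟩ := IsIrrCharacter.exists_degree hχ
  have hdn : d = n := by exact_mod_cast hd.symm.trans hn
  subst hdn
  have hdG : d ∣ Nat.card G := IsIrrCharacter.degree_dvd_card hχ hn
  have key : ∀ (r : ℕ) (A : Subgroup G), r.Prime → A = Cfsg.pCore r G →
      2 * d.factorization r ≤ ((center G).relIndex A).factorization r := by
    intro r A hr hA
    haveI := Fact.mk hr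
    have hAF : A ≤ F := hA ▸ hFdef ▸ CfsgLib.Solvable.pCore_le_fittingSubgroup _
    have e := congrArg (fun m => m.factorization r) hdeg
    simp only [Nat.factorization_mul (pow_ne_zero 2 hd0.ne') Nat.card_pos.ne',
      Nat.factorization_pow, Finsupp.add_apply, Finsupp.smul_apply, smul_eq_mul] at e
    have hFA : (Nat.card F).factorization r ≤ (Nat.card A).factorization r := by
      obtain ⟨T⟩ := (inferInstance : Nonempty (Sylow r F))
      haveI := hFnil
      haveI : (T : Subgroup F).Normal := inferInstance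
      haveI := Sylow.characteristic_of_normal T inferInstance
      have hTA : (T : Subgroup F).map F.subtype ≤ A := hA ▸ CfsgLib.Solvable.le_pCore r
        (ConjAct.normal_of_characteristic_of_normal) (T.2.map _)
      have h3 := Subgroup.card_dvd_of_le hTA
      rw [Subgroup.card_map_of_injective F.subtype_injective, Sylow.card_eq_multiplicity] at h3
      exact (hr.pow_dvd_iff_le_factorization Nat.card_pos.ne').1 h3
    have hAZ : (Nat.card A).factorization r ≤
        ((center G).relIndex A).factorization r + (Nat.card (center G)).factorization r := by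
      have h4 : Nat.card A ∣ (center G).relIndex A * Nat.card (center G) := by
        rw [← ((center G).subgroupOf A).card_mul_index, mul_comm]
        refine mul_dvd_mul_left _ ?_
        exact Subgroup.card_comap_dvd_of_injective _ _ A.subtype_injective
      have h5 := (Nat.factorization_le_iff_dvd Nat.card_pos.ne'
        (mul_ne_zero Subgroup.index_ne_zero_of_finite Nat.card_pos.ne')).2 h4 r
      rw [Nat.factorization_mul Subgroup.index_ne_zero_of_finite Nat.card_pos.ne',
        Finsupp.add_apply] at h5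
      exact h5
    omega
  refine (Nat.factorization_le_iff_dvd hd0.ne' Subgroup.index_ne_zero_of_finite).1 fun r => ?_
  by_cases hrd : r.Prime ∧ r ∣ d
  swap
  · rw [not_and_or] at hrd
    rcases hrd with h | h
    · simp [Nat.factorization_eq_zero_of_not_prime d h]
    · simp [Nat.factorization_eq_zero_of_not_dvd h]
  rcases hpr r hrd.1 (hrd.2.trans hdG) with rfl | rfl
  · have := key r P hrd.1 hP; omega
  · have := key r R hrd.1 hR; omega

/-- **Primitive characters of two-prime metanilpotent groups.** -/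
theorem exists_class [Group.IsSolvable G] {χ : G → ℂ} (hχ : Cfsg.IsIrrCharacter G χ)
    (hprim : IsPrim χ) (hnil : Group.IsNilpotent (G ⧸ Cfsg.fittingSubgroup G)) {p q : ℕ}
    [Fact p.Prime] [Fact q.Prime] (hpq : p ≠ q)
    (hpr : ∀ r : ℕ, r.Prime → r ∣ Nat.card G → r = p ∨ r = q) {n : ℕ} (hn : χ 1 = n) :
    ∃ g : G, n ∣ (centralizer ({g} : Set G)).index := by
  classical
  have hχc := IsIrrCharacter.isCharacter hχ
  obtain ⟨K, hKdef⟩ : ∃ K, K = kerSubgroup hχc := ⟨_, rfl⟩
  haveI hKn : K.Normal := hKdef ▸ kerSubgroup_normal hχc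
  obtain ⟨σ, hσ, hσχ⟩ := TwoClass.exists_deflate hχ (N := K) (fun y hy => by
    rw [hKdef] at hy; exact hy)
  haveI := Fintype.ofFinite (G ⧸ K)
  haveI : Group.IsSolvable (G ⧸ K) := inferInstance
  have hprimσ : IsPrim σ := by
    intro H θ hθ hind
    obtain ⟨H', hH'⟩ : ∃ H', H' = H.comap (QuotientGroup.mk' K) := ⟨_, rfl⟩
    have hKH : K ≤ H' := fun x hx => by
      rw [hH', mem_comap, show QuotientGroup.mk' K x = 1 from (QuotientGroup.eq_one_iff x).2 hx]
      exact one_mem _
    have hmapH : H'.map (QuotientGroup.mk' K) = H := by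
      rw [hH', map_comap_eq_self_of_surjective (QuotientGroup.mk'_surjective K)]
    subst hmapH
    have htop : H' = ⊤ := hprim H'
      (fun x => θ ⟨QuotientGroup.mk' K x, mem_map_of_mem _ x.2⟩)
      (IsCharacter.comp hθ ((QuotientGroup.mk' K).subgroupMap H')) (funext fun g => by
        rw [← indFun_inflate K H' hKH _ θ (fun x => rfl) g, hind, hσχ]
        rfl)
    rw [htop, Subgroup.map_top_of_surjective _ (QuotientGroup.mk'_surjective K)]
  have hfaithσ : ∀ g, σ g = σ 1 → g = 1 := by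
    intro g hg
    induction g using QuotientGroup.induction_on with
    | _ x =>
      rw [QuotientGroup.eq_one_iff, hKdef, mem_kerSubgroup, hσχ]
      exact hg
  obtain ⟨F, hFdef⟩ : ∃ F, F = Cfsg.fittingSubgroup G := ⟨_, rfl⟩
  haveI hFn : F.Normal := hFdef ▸ CfsgLib.Solvable.fittingSubgroup_normal
  have hnilσ : Group.IsNilpotent ((G ⧸ K) ⧸ Cfsg.fittingSubgroup (G ⧸ K)) := by
    have hle : F.map (QuotientGroup.mk' K) ≤ Cfsg.fittingSubgroup (G ⧸ K) := by
      haveI : Group.IsNilpotent F := hFdef ▸ CfsgLib.Solvable.isNilpotent_fittingSubgroup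
      exact CfsgLib.Solvable.le_fittingSubgroup (hFn.map _ (QuotientGroup.mk'_surjective K))
        (Group.nilpotent_of_surjective _ ((QuotientGroup.mk' K).subgroupMap_surjective F))
    have hnil' : Group.IsNilpotent (G ⧸ F) := by subst hFdef; exact hnil
    haveI := hnil'
    refine Group.nilpotent_of_surjective
      (QuotientGroup.map F (Cfsg.fittingSubgroup (G ⧸ K)) (QuotientGroup.mk' K)
        (map_le_iff_le_comap.1 hle)) fun y => ?_
    obtain ⟨z, rfl⟩ := QuotientGroup.mk'_surjective _ y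
    obtain ⟨x, rfl⟩ := QuotientGroup.mk'_surjective K z
    exact ⟨x, rfl⟩
  obtain ⟨g, hg⟩ := exists_class_faithful hσ hprimσ hfaithσ hnilσ hpq
    (fun r hr hrd => hpr r hr (hrd.trans (Subgroup.card_quotient_dvd_card K)))
    (n := n) (by rw [← hn, hσχ]; rfl)
  obtain ⟨x, rfl⟩ := QuotientGroup.mk'_surjective K g
  refine ⟨x, hg.trans ?_⟩
  refine dvd_trans ?_ (Subgroup.index_map_dvd _ (QuotientGroup.mk'_surjective K))
  refine Subgroup.index_dvd_of_le ?_
  rintro _ ⟨y, hy, rfl⟩
  rw [mem_centralizer_singleton_iff, ← map_mul, ← map_mul, mem_centralizer_singleton_iff.1 hy]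

end CfsgLib.PrimClassSize
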