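import Cfsg.Agent.PrimClassSize.Main
import Cfsg.Agent.Char.Orthogonality
import Mathlib.Data.Nat.Factorization.Basic

/-!
The `p`-part of a primitive character degree of a solvable group against class sizes.
-/

set_option autoImplicit false
set_option linter.style.haveILetI false
set_option linter.unusedSectionVars false

namespace CfsgLib.PrimClassSize

open CfsgLib.Char Subgroup

universe u v

/-! ### Fixed points on an irreducible module -/

theorem fixed_mul_le {V : Type v} [CommGroup V] [Finite V] {H : Type u} [Group H]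
    (φ : H →* MulAut V) (g a : H) :
    Nat.card (fixedOf φ g) * Nat.card (fixedOf φ (g * a)) ≤
      Nat.card V * Nat.card (fixedOf φ a) := by
  set A := fixedOf φ g
  set B := fixedOf φ (g * a)
  have hle : A ⊓ B ≤ fixedOf φ a := by
    rintro x ⟨hx, hx'⟩
    have h1 : φ g (φ a x) = φ g x := by
      rw [show φ g x = x from hx]
      have h2 : φ (g * a) x = x := hx'
      rwa [map_mul] at h2
    exact (φ g).injective h1
  have h1 := Subgroup.relIndex_mul_index (inf_le_left : A ⊓ B ≤ A)
  have h2 := Subgroup.card_mul_index (A ⊓ B)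
  have h3 := Subgroup.card_mul_index A
  have h4 : A.relIndex B ≤ A.index :=
    Nat.le_of_dvd (Nat.pos_of_ne_zero Subgroup.index_ne_zero_of_finite)
      (Subgroup.relIndex_dvd_index_of_normal A B)
  have h5 : A.relIndex B * Nat.card (A ⊓ B : Subgroup V) = Nat.card B := by
    have := (Subgroup.card_mul_index ((A ⊓ B).subgroupOf B))
    rw [Nat.card_congr (Subgroup.subgroupOfEquivOfLe (inf_le_right : A ⊓ B ≤ B)).toEquiv] at this
    rw [mul_comm, ← Subgroup.inf_relIndex_right A B]
    exact this
  calc Nat.card A * Nat.card B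
      = Nat.card A * A.relIndex B * Nat.card (A ⊓ B : Subgroup V) := by rw [mul_assoc, h5]
    _ ≤ Nat.card A * A.index * Nat.card (A ⊓ B : Subgroup V) :=
        Nat.mul_le_mul_right _ (Nat.mul_le_mul_left _ h4)
    _ ≤ Nat.card V * Nat.card (fixedOf φ a) := by
        rw [h3]; exact Nat.mul_le_mul_left _ (Subgroup.card_le_of_le hle)

/-- If a normal `q`-subgroup of the acting group has few fixed points, so does the whole group on
average. -/
theorem prod_fixed_le_of_subgroup {V : Type v} [CommGroup V] [Finite V] {H : Type u} [Group H]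
    [Fintype H] (φ : H →* MulAut V) (A : Subgroup H) [Fintype A]
    (hA : ∏ a : A, Nat.card (fixedOf φ (a : H)) ^ 2 ≤ Nat.card V ^ Fintype.card A) :
    (∏ g : H, Nat.card (fixedOf φ g)) ^ 4 ≤ Nat.card V ^ (3 * Fintype.card H) := by
  set P := ∏ g : H, Nat.card (fixedOf φ g) with hP
  set N := Fintype.card A
  set Q := ∏ a : A, Nat.card (fixedOf φ (a : H)) with hQ
  have hshift : ∀ a : A, ∏ g : H, Nat.card (fixedOf φ (g * a)) = P := fun a =>
    Equiv.prod_comp (Equiv.mulRight (a : H)) (fun g => Nat.card (fixedOf φ g))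
  have h1 : ∏ a : A, ∏ g : H, Nat.card (fixedOf φ g) * Nat.card (fixedOf φ (g * a)) ≤
      ∏ a : A, ∏ _g : H, Nat.card V * Nat.card (fixedOf φ (a : H)) :=
    Finset.prod_le_prod' fun a _ => Finset.prod_le_prod' fun g _ => fixed_mul_le φ g a
  simp only [Finset.prod_mul_distrib, hshift, Finset.prod_const, Finset.card_univ,
    Finset.prod_pow] at h1
  rw [← hP, ← hQ] at h1
  have h2 : Q ^ 2 ≤ Nat.card V ^ N := by rw [hQ, ← Finset.prod_pow]; exact hA
  refine (Nat.pow_le_pow_iff_left (show N ≠ 0 from Fintype.card_ne_zero)).1 ?_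
  calc (P ^ 4) ^ N = (P ^ N * P ^ N) ^ 2 := by ring
    _ ≤ ((Nat.card V ^ Fintype.card H) ^ N * Q ^ Fintype.card H) ^ 2 :=
        Nat.pow_le_pow_left h1 2
    _ = (Nat.card V ^ Fintype.card H) ^ (2 * N) * (Q ^ 2) ^ Fintype.card H := by ring
    _ ≤ (Nat.card V ^ Fintype.card H) ^ (2 * N) * (Nat.card V ^ N) ^ Fintype.card H :=
        Nat.mul_le_mul_left _ (Nat.pow_le_pow_left h2 _)
    _ = (Nat.card V ^ (3 * Fintype.card H)) ^ N := by ring

/-- A nontrivial irreducible solvable linear group has few fixed points on average. -/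
theorem prod_fixed_le_of_irreducible {p : ℕ} [hp : Fact p.Prime] {V : Type v} [CommGroup V]
    [Finite V] (hV : IsPGroup p V) {H : Type u} [Group H] [Fintype H] [Group.IsSolvable H]
    (φ : H →* MulAut V)
    (hirr : ∀ W : Subgroup V, (∀ h : H, ∀ w ∈ W, φ h w ∈ W) → W = ⊥ ∨ W = ⊤)
    (hnt : ∃ h x, φ h x ≠ x) :
    (∏ g : H, Nat.card (fixedOf φ g)) ^ 4 ≤ Nat.card V ^ (3 * Fintype.card H) := by
  classical
  set R := φ.range with hR
  haveI : Group.IsSolvable R :=
    Group.isSolvable_of_surjective φ.rangeRestrict_surjective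
  haveI : Nontrivial R := by
    obtain ⟨h, x, hx⟩ := hnt
    refine ⟨⟨φ.rangeRestrict h, 1, fun he => hx ?_⟩⟩
    have : φ h = 1 := congrArg Subtype.val he
    rw [this]; rfl
  obtain ⟨q, hq, hQ⟩ : ∃ q : ℕ, q.Prime ∧ Cfsg.pCore q R ≠ ⊥ := by
    by_contra! hno
    have hF : Cfsg.fittingSubgroup R = ⊥ := by
      rw [CfsgLib.Solvable.fittingSubgroup_eq_iSup_pCore]
      exact iSup_eq_bot.2 fun q => hno q q.2
    obtain ⟨x, hx⟩ := exists_ne (1 : R)
    have h1 := CfsgLib.Fitting.centralizer_fittingSubgroup_le_of_solvable (G := R)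
    rw [hF] at h1
    exact hx (mem_bot.1 (h1 (mem_centralizer_iff.2 fun y hy => by
      rw [mem_bot.1 hy, one_mul, mul_one])))
  haveI := Fact.mk hq
  set B := (Cfsg.pCore q R) with hB
  haveI hBn : B.Normal := CfsgLib.Solvable.pCore_normal q
  have hBp : IsPGroup q B := CfsgLib.Solvable.isPGroup_pCore q
  let ψ : B →* MulAut V := R.subtype.comp B.subtype
  have hne : ∀ h : H, ∀ b : B, ∃ b' : B, (b' : R).1 = φ h * (b : R).1 * (φ h)⁻¹ := fun h b =>
    ⟨⟨φ.rangeRestrict h * b * (φ.rangeRestrict h)⁻¹, hBn.conj_mem _ b.2 _⟩, rfl⟩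
  let W : Subgroup V :=
    { carrier := {x | ∀ b : B, ψ b x = x}
      one_mem' := fun b => map_one _
      mul_mem' := fun {x y} hx hy b => by rw [map_mul, hx b, hy b]
      inv_mem' := fun {x} hx b => by rw [map_inv, hx b] }
  have hWinv : ∀ h : H, ∀ w ∈ W, φ h w ∈ W := fun h w hw b => by
    obtain ⟨b', hb'⟩ := hne h⁻¹ b
    have h1 : ψ b' w = w := hw b'
    have h2 : ψ b' = φ h⁻¹ * ψ b * (φ h⁻¹)⁻¹ := hb'
    rw [h2, map_inv, inv_inv, MulAut.mul_apply, MulAut.mul_apply] at h1
    have h3 := congrArg (φ h) h1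
    rwa [MulAut.inv_def, MulEquiv.apply_symm_apply] at h3
  have hW : W = ⊥ := by
    refine (hirr W hWinv).resolve_right fun htop => hQ ?_
    refine (Subgroup.eq_bot_iff_forall _).2 fun b hb => Subtype.ext ?_
    exact MulEquiv.ext fun x => (show x ∈ W by rw [htop]; exact mem_top x) ⟨b, hb⟩
  have hqp : q ≠ p := by
    intro he; subst he
    letI : MulAction B V := MulAction.compHom V ψ
    obtain ⟨h, x, hx⟩ := hnt
    haveI : Nontrivial V := nontrivial_of_ne _ _ hx
    have hdvd : q ∣ Nat.card V := by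
      obtain ⟨k, hk⟩ := IsPGroup.iff_card.1 hV
      rw [hk]
      refine dvd_pow_self q fun h0 => ?_
      rw [h0, pow_zero] at hk
      exact (Finite.one_lt_card (α := V)).ne' hk
    obtain ⟨y, hy, hy1⟩ := hBp.exists_fixed_point_of_prime_dvd_card_of_fixed_point V hdvd
      (a := 1) (fun b => map_one (ψ b))
    have : y ∈ W := fun b => hy b
    rw [hW, mem_bot] at this
    exact hy1 this.symm
  have hqV : ¬ q ∣ Nat.card V := by
    obtain ⟨k, hk⟩ := IsPGroup.iff_card.1 hV
    rw [hk]
    exact fun h => hqp ((Nat.prime_dvd_prime_iff_eq hq hp.out).1 (hq.dvd_of_dvd_pow h))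
  -- pull back to a Sylow subgroup of the preimage
  obtain ⟨S⟩ : Nonempty (Sylow q (B.comap φ.rangeRestrict)) := inferInstance
  set A := (S : Subgroup _).map (B.comap φ.rangeRestrict).subtype with hA
  have hAp : IsPGroup q A := S.2.map _
  have hsurj : ∀ b : B, ∃ a : A, φ (a : H) = ψ b := by
    let π : (B.comap φ.rangeRestrict) →* B :=
      (φ.rangeRestrict.comp (B.comap φ.rangeRestrict).subtype).codRestrict B fun x => x.2
    have hπ : Function.Surjective π := fun b => by
      obtain ⟨h, hh⟩ := φ.rangeRestrict_surjective (b : R)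
      exact ⟨⟨h, by rw [mem_comap, hh]; exact b.2⟩, Subtype.ext hh⟩
    intro b
    obtain ⟨T, hT⟩ := (IsPGroup.map S.2 π).exists_le_sylow
    have htop : (S.mapSurjective hπ : Subgroup B) = ⊤ :=
      ((S.mapSurjective hπ).3 (hBp.of_equiv Subgroup.topEquiv.symm) le_top).symm
    have hb : b ∈ (S.mapSurjective hπ : Subgroup B) := htop ▸ mem_top b
    rw [Sylow.coe_mapSurjective] at hb
    obtain ⟨x, hx, rfl⟩ := hb
    exact ⟨⟨x, mem_map_of_mem _ hx⟩, rfl⟩
  refine prod_fixed_le_of_subgroup φ A ?_
  refine prod_fixed_le hAp (Nat.card V) V le_rfl hqV (φ.comp A.subtype) fun x hx => ?_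
  have : x ∈ W := fun b => by
    obtain ⟨a, ha⟩ := hsurj b
    rw [← ha]
    exact hx a
  rwa [hW, mem_bot] at this

/-! ### Valuations -/

variable {G : Type u} [Group G] [Fintype G]

theorem card_map_mul (L : Subgroup G) [L.Normal] (X : Subgroup G) :
    Nat.card (X.map (QuotientGroup.mk' L)) * Nat.card (X ⊓ L : Subgroup G) = Nat.card X := by
  have h1 := Subgroup.card_mul_index (L.subgroupOf X)
  rw [show (L.subgroupOf X).index = L.relIndex X from rfl] at h1
  have h2 : L.relIndex X = Nat.card (X.map (QuotientGroup.mk' L)) := by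
    have h3 : ((⊥ : Subgroup (G ⧸ L)).comap (QuotientGroup.mk' L)).relIndex X =
        (⊥ : Subgroup (G ⧸ L)).relIndex (X.map (QuotientGroup.mk' L)) :=
      Subgroup.relIndex_comap _ _ _
    rwa [MonoidHom.comap_bot, QuotientGroup.ker_mk', Subgroup.relIndex_bot_left] at h3
  rw [← h2, mul_comm, ← h1, ← Subgroup.inf_subgroupOf_left L X]
  congr 1
  exact (Nat.card_congr (Subgroup.subgroupOfEquivOfLe
    (inf_le_left : X ⊓ L ≤ X)).toEquiv).symm

/-- One `p`-step of the loss. -/
theorem val_step (p : ℕ) [hp : Fact p.Prime] {L U : Subgroup G} [L.Normal] (hLU : L ≤ U)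
    {d : ℕ} (hd : Nat.card (U.map (QuotientGroup.mk' L)) = p ^ d) (g : G) :
    ∃ j, Nat.card (U.map (QuotientGroup.mk' L) ⊓
        centralizer ({(QuotientGroup.mk' L g)} : Set (G ⧸ L)) : Subgroup (G ⧸ L)) = p ^ j ∧
      (Nat.card L).factorization p + d +
          (Nat.card (U ⊓ centralizer {g} : Subgroup G)).factorization p ≤
        (Nat.card U).factorization p +
          ((Nat.card (L ⊓ centralizer {g} : Subgroup G)).factorization p + j) := by
  set W := U.map (QuotientGroup.mk' L)
  set C := U ⊓ centralizer ({g} : Set G)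
  have hWp : IsPGroup p W := IsPGroup.of_card hd
  obtain ⟨j, hj⟩ := IsPGroup.iff_card.1 (hWp.to_le (inf_le_left :
    W ⊓ centralizer ({(QuotientGroup.mk' L g)} : Set (G ⧸ L)) ≤ W))
  obtain ⟨i, hi⟩ := IsPGroup.iff_card.1 (hWp.to_le (show C.map (QuotientGroup.mk' L) ≤ W from
    map_mono inf_le_left))
  have hij : i ≤ j := by
    have : C.map (QuotientGroup.mk' L) ≤
        W ⊓ centralizer ({(QuotientGroup.mk' L g)} : Set (G ⧸ L)) := by
      refine le_inf (map_mono inf_le_left) ?_
      rintro _ ⟨x, hx, rfl⟩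
      rw [mem_centralizer_singleton_iff, ← map_mul, ← map_mul,
        mem_centralizer_singleton_iff.1 hx.2]
    have h1 := Subgroup.card_le_of_le this
    rw [hi, hj] at h1
    exact (Nat.pow_le_pow_iff_right hp.out.one_lt).1 h1
  refine ⟨j, hj, ?_⟩
  have hU := card_map_mul L U
  rw [hd, inf_eq_right.2 hLU] at hU
  have hC := card_map_mul L C
  rw [hi, show C ⊓ L = L ⊓ centralizer {g} by
    rw [inf_right_comm, inf_eq_right.2 hLU]] at hC
  rw [← hU, ← hC, Nat.factorization_mul (pow_ne_zero _ hp.out.ne_zero) Nat.card_pos.ne',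
    Nat.factorization_mul (pow_ne_zero _ hp.out.ne_zero) Nat.card_pos.ne',
    Finsupp.add_apply, Finsupp.add_apply, Nat.Prime.factorization_pow hp.out,
    Nat.Prime.factorization_pow hp.out, Finsupp.single_eq_same, Finsupp.single_eq_same]
  omega

theorem constituent_trans {A : Type u} [Group A] [Fintype A] (B : Subgroup A) [Fintype B]
    {φ ψ : A → ℂ} {η : B → ℂ} (hφ : Cfsg.IsCharacter A φ) (hψ : Cfsg.IsIrrCharacter A ψ)
    (hη : Cfsg.IsCharacter B η) (h1 : Cfsg.classInner φ ψ ≠ 0)
    (h2 : Cfsg.classInner (fun b : B => ψ b) η ≠ 0) :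
    Cfsg.classInner (fun b : B => φ b) η ≠ 0 := by
  rw [← classInner_indFun_right (IsCharacter.isClassFunction hφ)]
  refine IsCharacter.classInner_ne_zero_of_common hφ (IsCharacter.indFun hη) hψ h1 ?_
  rw [classInner_indFun η (IsIrrCharacter.isClassFunction hψ), ← classInner_conj]
  exact fun h => h2 (by simpa using h)

/-- Degrees along a normal pair under a primitive character. -/
theorem degree_step {χ : G → ℂ} (hχ : Cfsg.IsIrrCharacter G χ) (hprim : IsPrim χ)
    {L U : Subgroup G} [L.Normal] [U.Normal] [Fintype L] [Fintype U] (hLU : L ≤ U)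
    {θ : U → ℂ} (hθ : Cfsg.IsIrrCharacter U θ)
    (hc : Cfsg.classInner (fun x : U => χ x) θ ≠ 0) :
    ∃ (φ : L → ℂ) (e : ℕ), Cfsg.IsIrrCharacter L φ ∧
      Cfsg.classInner (fun x : L => χ x) φ ≠ 0 ∧ θ 1 = (e : ℂ) * φ 1 ∧
      e ∣ L.relIndex U ∧ e ^ 2 ≤ L.relIndex U := by
  classical
  haveI := Fintype.ofFinite (L.subgroupOf U)
  obtain ⟨φ', hφ', hc'⟩ := exists_constituent_restrict (N := L.subgroupOf U) hθ
  let e₀ := Subgroup.subgroupOfEquivOfLe hLU
  obtain ⟨φ, hφdef⟩ : ∃ φ : L → ℂ, φ = fun x => φ' (e₀.symm x) := ⟨_, rfl⟩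
  have hpb : φ' = pullBack (T := U) φ := by
    funext x; rw [hφdef]; exact congrArg φ' (e₀.symm_apply_apply x).symm
  have hφ : Cfsg.IsIrrCharacter L φ := by
    rw [hφdef]; exact IsIrrCharacter.comp_surjective hφ' e₀.symm.toMonoidHom e₀.symm.surjective
  have hcL : Cfsg.classInner (fun x : L => χ x) φ ≠ 0 := by
    have h1 := constituent_trans (L.subgroupOf U)
      (φ := fun x : U => χ x) (ψ := θ) (η := φ')
      (IsCharacter.restrict (IsIrrCharacter.isCharacter hχ) U) hθ
      (IsIrrCharacter.isCharacter hφ') hc hc'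
    rw [hpb] at h1
    exact (classInner_pullBack hLU (fun x : L => χ x) φ) ▸ h1
  have hI := inertia_eq_top hχ hprim hφ hcL
  have hinv : ∀ t : U, conjOn t φ' = φ' := fun t => by
    rw [hpb]; funext x
    have := congrFun ((mem_inertia φ (t : G)).1 (hI ▸ mem_top (t : G)))
      ⟨((x : U) : G), Subgroup.mem_subgroupOf.mp x.2⟩
    simp only [conjOn_apply] at this
    simp only [pullBack, conjOn_apply]
    exact this
  obtain ⟨e, he⟩ := IsCharacter.exists_classInner_eq_natCast
    (IsCharacter.restrict (IsIrrCharacter.isCharacter hθ) (L.subgroupOf U)) hφ'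
  have he0 : e ≠ 0 := fun h => hc' (by rw [he, h, Nat.cast_zero])
  have horb : conjOrbit φ' = {φ'} := by
    refine Finset.eq_singleton_iff_unique_mem.2 ⟨self_mem_conjOrbit _, fun ψ hψ => ?_⟩
    obtain ⟨t, rfl⟩ := mem_conjOrbit.1 hψ
    exact hinv t
  have hres := restrict_eq_smul_sum hθ hφ' hc'
  rw [horb, Finset.sum_singleton, he] at hres
  refine ⟨φ, e, hφ, hcL, ?_, dvd_index_of_invariant hθ hφ' hinv he he0, ?_⟩
  · have := congrFun hres 1
    simpa [hφdef] using this
  · have hn : ∑ x : L.subgroupOf U, Complex.normSq (θ (x : U)) =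
        (e : ℝ) ^ 2 * Nat.card (L.subgroupOf U) := by
      have h1 : Cfsg.classInner (fun x : L.subgroupOf U => θ x)
          (fun x : L.subgroupOf U => θ x) = (e : ℂ) ^ 2 := by
        rw [hres, classInner_smul_left, classInner_smul_right,
          IsIrrCharacter.classInner_self hφ', Complex.conj_natCast]
        ring
      rw [classInner_def] at h1
      simp only [Complex.mul_conj] at h1
      rw [← Complex.ofReal_sum, inv_mul_eq_iff_eq_mul₀
        (by exact_mod_cast Nat.card_pos.ne')] at h1
      rw [mul_comm]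
      exact_mod_cast h1
    have hu : ∑ x : U, Complex.normSq (θ x) = (Nat.card U : ℝ) := by
      have h1 := IsIrrCharacter.classInner_self hθ
      rw [classInner_def] at h1
      simp only [Complex.mul_conj] at h1
      rw [← Complex.ofReal_sum, inv_mul_eq_iff_eq_mul₀
        (by exact_mod_cast Nat.card_pos.ne'), mul_one] at h1
      exact_mod_cast h1
    have hle : (e : ℝ) ^ 2 * Nat.card (L.subgroupOf U) ≤ Nat.card U := by
      rw [← hn, ← hu]
      rw [← Finset.sum_subtype (s := Finset.univ.filter fun x : U => x ∈ L.subgroupOf U)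
        (h := fun x => by simp) (f := fun x => Complex.normSq (θ x))]
      exact Finset.sum_le_sum_of_subset_of_nonneg (Finset.filter_subset _ _)
        fun x _ _ => Complex.normSq_nonneg _
    have hle' : e ^ 2 * Nat.card (L.subgroupOf U) ≤ Nat.card U := by exact_mod_cast hle
    rw [← Subgroup.card_mul_index (L.subgroupOf U), mul_comm (Nat.card _)] at hle'
    exact Nat.le_of_mul_le_mul_right hle' Nat.card_pos

/-- The loss `v_p |U : C_U(g)|`. -/
noncomputable def loss (p : ℕ) (U : Subgroup G) (g : G) : ℕ :=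
  (Nat.card U).factorization p - (Nat.card (U ⊓ centralizer {g} : Subgroup G)).factorization p

theorem loss_add (p : ℕ) (U : Subgroup G) (g : G) :
    loss p U g + (Nat.card (U ⊓ centralizer {g} : Subgroup G)).factorization p =
      (Nat.card U).factorization p :=
  Nat.sub_add_cancel ((Nat.factorization_le_iff_dvd Nat.card_pos.ne' Nat.card_pos.ne').2
    (Subgroup.card_dvd_of_le inf_le_left) p)

theorem loss_mono_of_coprime (p : ℕ) [hp : Fact p.Prime] {L U : Subgroup G} [L.Normal]
    (hLU : L ≤ U) (hr : ¬ p ∣ L.relIndex U) (g : G) : loss p L g ≤ loss p U g := by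
  obtain ⟨C, hC⟩ : ∃ C, C = U ⊓ centralizer ({g} : Set G) := ⟨_, rfl⟩
  have hrel : Nat.card (U.map (QuotientGroup.mk' L)) = L.relIndex U := by
    refine Nat.eq_of_mul_eq_mul_right (Nat.card_pos (α := L)) ?_
    have h1 := card_map_mul L U
    rw [inf_eq_right.2 hLU] at h1
    rw [h1, mul_comm, ← Nat.card_congr (Subgroup.subgroupOfEquivOfLe hLU).toEquiv]
    exact ((L.subgroupOf U).card_mul_index).symm
  have h0 : ∀ X : Subgroup G, X ≤ U → (Nat.card X).factorization p =
      (Nat.card (X ⊓ L : Subgroup G)).factorization p := fun X hX => by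
    rw [← card_map_mul L X, Nat.factorization_mul Nat.card_pos.ne' Nat.card_pos.ne',
      Finsupp.add_apply, Nat.factorization_eq_zero_of_not_dvd fun h => hr (hrel ▸
        h.trans (Subgroup.card_dvd_of_le (map_mono hX))), zero_add]
  have h1 := h0 U le_rfl
  have h2 := h0 C (hC.le.trans inf_le_left)
  rw [inf_eq_right.2 hLU] at h1
  rw [show C ⊓ L = L ⊓ centralizer {g} by
    rw [hC, inf_right_comm, inf_eq_right.2 hLU]] at h2
  unfold loss
  rw [← hC]
  omega

/-- The average fixed-point bound on a chief factor, additively in exponents. -/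
theorem sum_fixed_exp_le {p : ℕ} [hp : Fact p.Prime] [Group.IsSolvable G] {L : Subgroup G}
    [L.Normal] (W : Subgroup (G ⧸ L)) [W.Normal] (hab : IsMulCommutative W) {d : ℕ}
    (hd : Nat.card W = p ^ d)
    (hmin : ∀ N : Subgroup (G ⧸ L), N.Normal → N ≤ W → N = ⊥ ∨ N = W)
    (hnc : ¬ W ≤ center (G ⧸ L)) (f : G → ℕ)
    (hf : ∀ g : G, Nat.card
      (W ⊓ centralizer ({(QuotientGroup.mk' L g)} : Set (G ⧸ L)) : Subgroup (G ⧸ L)) = p ^ f g) :
    4 * ∑ g : G, f g ≤ 3 * d * Fintype.card G := by
  classical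
  haveI := hab
  letI : CommGroup W := { (inferInstance : Group W) with mul_comm := hab.is_comm.comm }
  let φ : G →* MulAut W := MulAut.conjNormal.comp (QuotientGroup.mk' L)
  have hcard : ∀ g : G, Nat.card (fixedOf φ g) = p ^ f g := fun g => by
    rw [← hf g]
    refine Nat.card_congr
      ⟨fun x => ⟨((x : W) : G ⧸ L), ((x : W).2 : _), ?_⟩,
        fun x => ⟨⟨(x : G ⧸ L), x.2.1⟩, ?_⟩, fun x => rfl, fun x => rfl⟩
    · have h := congrArg Subtype.val x.2
      simp only [φ, MonoidHom.comp_apply, MulAut.conjNormal_apply] at h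
      exact mem_centralizer_singleton_iff.2 (mul_inv_eq_iff_eq_mul.1 h).symm
    · have h := mem_centralizer_singleton_iff.1 x.2.2
      refine Subtype.ext ?_
      simp only [φ, MonoidHom.comp_apply, MulAut.conjNormal_apply]
      exact mul_inv_eq_iff_eq_mul.2 h.symm
  have hWp : IsPGroup p W := IsPGroup.of_card hd
  have hirr : ∀ U : Subgroup W, (∀ h : G, ∀ w ∈ U, φ h w ∈ U) → U = ⊥ ∨ U = ⊤ := by
    intro U hU
    haveI : (U.map W.subtype).Normal := ⟨by
      rintro _ ⟨w, hw, rfl⟩ x
      obtain ⟨g, rfl⟩ := QuotientGroup.mk'_surjective L x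
      exact ⟨φ g w, hU g w hw, rfl⟩⟩
    rcases hmin _ ‹_› (map_subtype_le U) with h | h
    · exact Or.inl ((U.map_eq_bot_iff_of_injective W.subtype_injective).1 h)
    · refine Or.inr (map_injective W.subtype_injective ?_)
      rw [h, ← MonoidHom.range_eq_map, W.range_subtype]
  have hnt : ∃ h x, φ h x ≠ x := by
    by_contra! h
    refine hnc fun w hw => mem_center_iff.2 fun x => ?_
    obtain ⟨g, rfl⟩ := QuotientGroup.mk'_surjective L x
    exact mul_inv_eq_iff_eq_mul.1 (congrArg Subtype.val (h g ⟨w, hw⟩))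
  have h := prod_fixed_le_of_irreducible hWp φ hirr hnt
  rw [Finset.prod_congr rfl (fun g _ => hcard g), Finset.prod_pow_eq_pow_sum, hd, ← pow_mul,
    ← pow_mul, Nat.pow_le_pow_iff_right hp.out.one_lt] at h
  linarith

/-- Along a chief series the degree part is bounded by the average loss. -/
theorem val_le_sum_loss (p : ℕ) [hp : Fact p.Prime] [Group.IsSolvable G] {χ : G → ℂ}
    (hχ : Cfsg.IsIrrCharacter G χ) (hprim : IsPrim χ) :
    ∀ (m : ℕ) (U : Subgroup G) [U.Normal] [Fintype U], Nat.card U ≤ m →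
      ∀ (θ : U → ℂ) (n : ℕ), Cfsg.IsIrrCharacter U θ →
        Cfsg.classInner (fun x : U => χ x) θ ≠ 0 → θ 1 = n →
          Fintype.card G * n.factorization p ≤ 2 * ∑ g : G, loss p U g := by
  classical
  intro m
  induction m with
  | zero => intro U _ _ h; exact absurd (Nat.card_pos (α := U)) (by omega)
  | succ m ih =>
    intro U _ _ hUm θ n hθ hc hn
    by_cases hU1 : U = ⊥
    · subst hU1
      have h1 : θ 1 = 1 := IsIrrCharacter.apply_one_eq_one hθ fun a b => Subsingleton.elim _ _
      rw [h1] at hn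
      have : n = 1 := by exact_mod_cast hn.symm
      subst this
      simp
    -- a chief factor below `U`
    obtain ⟨L, hLmax⟩ : ∃ L : Subgroup G, Maximal (fun L : Subgroup G => L.Normal ∧ L < U ∧
        ⁅U, U⁆ ≤ L) L := by
      refine Set.Finite.exists_maximal (Set.toFinite _) ⟨⁅U, U⁆, inferInstance, ?_, le_rfl⟩
      refine lt_of_le_of_ne (commutator_le_self U) fun he => hU1 ?_
      have hd : ∀ k, derivedSeries G k ≥ U := by
        intro k
        induction k with
        | zero => exact le_top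
        | succ k ihk =>
          rw [derivedSeries_succ]; exact he.ge.trans (commutator_mono ihk ihk)
      obtain ⟨k, hk⟩ := (inferInstance : Group.IsSolvable G).solvable
      exact le_bot_iff.1 (hk ▸ hd k)
    obtain ⟨hLn, hLlt, hLc⟩ := hLmax.prop
    haveI := hLn
    haveI := Fintype.ofFinite L
    have hLcard : Nat.card L < Nat.card U := by
      by_contra hle
      exact hLlt.ne (eq_of_le_of_card_ge hLlt.le (not_lt.1 hle))
    obtain ⟨φ, e, hφ, hφc, hdeg, hedvd, hesq⟩ := degree_step hχ hprim (L := L) hLlt.le hθ hc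
    obtain ⟨k, hk0, hk⟩ := IsIrrCharacter.exists_degree hφ
    have hind := ih L (by omega) φ k hφ hφc hk
    have hne : n = e * k := by
      rw [hn, hk] at hdeg
      exact_mod_cast hdeg
    have he0 : e ≠ 0 := fun h => by
      rw [h, Nat.cast_zero, zero_mul] at hdeg
      exact IsIrrCharacter.apply_one_ne_zero hθ hdeg
    have hrel0 : L.relIndex U ≠ 0 := Subgroup.index_ne_zero_of_finite
    rw [hne, Nat.factorization_mul he0 (by omega), Finsupp.add_apply]
    by_cases hpd : p ∣ L.relIndex U
    swap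
    · have h0 : e.factorization p = 0 :=
        Nat.factorization_eq_zero_of_not_dvd fun h => hpd (h.trans hedvd)
      rw [h0, zero_add]
      exact hind.trans (Nat.mul_le_mul_left _
        (Finset.sum_le_sum fun g _ => loss_mono_of_coprime p hLlt.le hpd g))
    -- the factor is a `p`-group
    set W := U.map (QuotientGroup.mk' L) with hW
    haveI hWn : W.Normal := (inferInstance : U.Normal).map _ (QuotientGroup.mk'_surjective L)
    have hab : IsMulCommutative W := ⟨⟨by
      rintro ⟨_, a, ha, rfl⟩ ⟨_, b, hb, rfl⟩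
      refine Subtype.ext ?_
      show QuotientGroup.mk' L a * QuotientGroup.mk' L b =
        QuotientGroup.mk' L b * QuotientGroup.mk' L a
      rw [← map_mul, ← map_mul]
      refine QuotientGroup.eq.2 ?_
      have : b⁻¹ * a⁻¹ * b⁻¹⁻¹ * a⁻¹⁻¹ ∈ L :=
        hLc (commutator_mem_commutator (U.inv_mem hb) (U.inv_mem ha))
      simpa [mul_assoc] using this⟩⟩
    have hmin : ∀ N : Subgroup (G ⧸ L), N.Normal → N ≤ W → N = ⊥ ∨ N = W := by
      intro N hN hNW
      by_cases hcase : N.comap (QuotientGroup.mk' L) < U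
      · left
        have h1 : L ≤ N.comap (QuotientGroup.mk' L) := fun x hx => by
          rw [mem_comap, QuotientGroup.mk'_apply, (QuotientGroup.eq_one_iff x).2 hx]
          exact one_mem N
        have h2 := hLmax.eq_of_le ⟨hN.comap _, hcase, hLc.trans h1⟩ h1
        have := map_comap_eq_self_of_surjective (QuotientGroup.mk'_surjective L) N
        rw [← this, ← h2, QuotientGroup.map_mk'_self]
      · right
        have h1 : N.comap (QuotientGroup.mk' L) ≤ U := by
          intro x hx
          obtain ⟨u, hu, hux⟩ := hNW hx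
          have : u⁻¹ * x ∈ L := QuotientGroup.eq.1 hux
          have := U.mul_mem hu (hLlt.le this)
          simpa using this
        rw [hW, ← h1.eq_of_not_lt hcase,
          map_comap_eq_self_of_surjective (QuotientGroup.mk'_surjective L)]
    have hWcard : Nat.card W = L.relIndex U := by
      refine Nat.eq_of_mul_eq_mul_right (Nat.card_pos (α := L)) ?_
      have h1 := card_map_mul L U
      rw [inf_eq_right.2 hLlt.le] at h1
      rw [h1, mul_comm, ← Nat.card_congr (Subgroup.subgroupOfEquivOfLe hLlt.le).toEquiv]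
      exact ((L.subgroupOf U).card_mul_index).symm
    have hWp : IsPGroup p W := by
      haveI := hab
      obtain ⟨P⟩ : Nonempty (Sylow p W) := inferInstance
      haveI : (P : Subgroup W).Normal := inferInstance
      haveI : (P : Subgroup W).Characteristic := P.characteristic_of_normal inferInstance
      rcases hmin _ (inferInstance : ((P : Subgroup W).map W.subtype).Normal)
        (map_subtype_le _) with h | h
      · exfalso
        have hP : (P : Subgroup W) = ⊥ :=
          ((P : Subgroup W).map_eq_bot_iff_of_injective W.subtype_injective).1 h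
        exact P.ne_bot_of_dvd_card (hWcard ▸ hpd) hP
      · intro x
        have hx : (x : G ⧸ L) ∈ (P : Subgroup W).map W.subtype := h.symm ▸ x.2
        obtain ⟨y, hy, hyx⟩ := hx
        rw [← Subtype.ext hyx]
        obtain ⟨j, hj⟩ := P.2 ⟨y, hy⟩
        exact ⟨j, congrArg Subtype.val hj⟩
    obtain ⟨d, hd⟩ := IsPGroup.iff_card.1 hWp
    have hjd : 2 * e.factorization p ≤ d := by
      have h1 : (e ^ 2) ≤ p ^ d := by rw [← hd, hWcard]; exact hesq
      obtain ⟨j, -, hj⟩ := (Nat.dvd_prime_pow hp.out).1 (hd ▸ hWcard ▸ hedvd)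
      rw [hj, ← pow_mul, Nat.pow_le_pow_iff_right hp.out.one_lt] at h1
      rw [hj, Nat.Prime.factorization_pow hp.out, Finsupp.single_eq_same]
      omega
    choose f hf hstep using val_step p hLlt.le hd
    have hstep' : ∀ g, loss p L g + d ≤ loss p U g + f g := fun g => by
      have h1 := hstep g
      have h2 := loss_add p L g
      have h3 := loss_add p U g
      omega
    have hsum := Finset.sum_le_sum (s := Finset.univ) fun g _ => hstep' g
    rw [Finset.sum_add_distrib, Finset.sum_add_distrib, Finset.sum_const, Finset.card_univ,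
      smul_eq_mul] at hsum
    by_cases hnc : W ≤ center (G ⧸ L)
    · -- a central factor has prime order
      have hd1 : d ≤ 1 := by
        by_contra hd2
        obtain ⟨x, hx⟩ := exists_prime_orderOf_dvd_card' (G := W) p
          (hd ▸ dvd_pow_self p (by omega))
        haveI : ((zpowers x).map W.subtype).Normal := ⟨by
          rintro _ ⟨w, hw, rfl⟩ g
          rw [Subgroup.coe_subtype, mem_center_iff.1 (hnc w.2) g, mul_inv_cancel_right]
          exact ⟨w, hw, rfl⟩⟩
        have hc' : Nat.card ((zpowers x).map W.subtype) = p := by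
          rw [Nat.card_congr ((zpowers x).equivMapOfInjective _ W.subtype_injective).toEquiv.symm,
            Nat.card_zpowers, hx]
        rcases hmin _ ‹_› (map_subtype_le _) with h | h
        · rw [h, Subgroup.card_bot] at hc'; exact hp.out.one_lt.ne hc'
        · rw [h, hd] at hc'
          have := Nat.pow_right_injective hp.out.two_le (hc'.trans (pow_one p).symm)
          omega
      have h0 : e.factorization p = 0 := by omega
      rw [h0, zero_add]
      have hfd : ∀ g, f g ≤ d := fun g => by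
        have h1 := Subgroup.card_le_of_le
          (inf_le_left : W ⊓ centralizer ({(QuotientGroup.mk' L g)} : Set (G ⧸ L)) ≤ W)
        rw [hf g, hd] at h1
        exact (Nat.pow_le_pow_iff_right hp.out.one_lt).1 h1
      have h4 := Finset.sum_le_sum (s := Finset.univ) fun g _ => hfd g
      rw [Finset.sum_const, Finset.card_univ, smul_eq_mul] at h4
      linarith
    · have h4 := sum_fixed_exp_le W hab hd hmin hnc f hf
      nlinarith

/-- Some class size has large `p`-part. -/
theorem exists_class_val (p : ℕ) [hp : Fact p.Prime] [Group.IsSolvable G] {χ : G → ℂ}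
    (hχ : Cfsg.IsIrrCharacter G χ) (hprim : IsPrim χ) {n : ℕ} (hn : χ 1 = n) :
    ∃ g : G, n.factorization p ≤ 2 * ((centralizer ({g} : Set G)).index).factorization p := by
  classical
  haveI := Fintype.ofFinite (⊤ : Subgroup G)
  have hirr : Cfsg.IsIrrCharacter (⊤ : Subgroup G) (fun x : (⊤ : Subgroup G) => χ x) :=
    IsIrrCharacter.comp_surjective hχ (⊤ : Subgroup G).subtype fun x => ⟨⟨x, mem_top x⟩, rfl⟩
  have h := val_le_sum_loss p hχ hprim _ ⊤ le_rfl _ n hirr
    (by rw [IsIrrCharacter.classInner_self hirr]; exact one_ne_zero) hn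
  by_contra! hlt
  have hl : ∀ g : G, 2 * loss p ⊤ g < n.factorization p := fun g => by
    refine lt_of_le_of_lt (le_of_eq ?_) (hlt g)
    unfold loss
    rw [top_inf_eq, Subgroup.card_top, ← (centralizer ({g} : Set G)).card_mul_index,
      Nat.factorization_mul Nat.card_pos.ne' Subgroup.index_ne_zero_of_finite, Finsupp.add_apply,
      Nat.add_sub_cancel_left]
  have h2 := Finset.sum_lt_sum_of_nonempty Finset.univ_nonempty (fun g _ => hl g)
  rw [← Finset.mul_sum, Finset.sum_const, Finset.card_univ, smul_eq_mul] at h2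
  omega

end CfsgLib.PrimClassSize
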